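import Mathlib
import Groth.Agent.Lib.Lead.Coh2.IdealGen
import Groth.Agent.H4.FlatPull1

/-!
# Subsheaves of `O_X` on a Noetherian scheme satisfy the ascending chain condition
-/

set_option autoImplicit false
universe u
open CategoryTheory CategoryTheory.Limits AlgebraicGeometry TopologicalSpace Opposite

namespace Groth.Agent.LD.NoethObj

open Groth.Agent.LD Groth.Agent.LD.IdealGen

variable {X : Scheme.{u}}

lemma stalkMap_comp {F G H : X.Modules} (φ : F ⟶ G) (ψ : G ⟶ H) (x : X)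
    (m : F.presheaf.stalk x) :
    RefHull.stalkMapₗ (φ ≫ ψ) x m = RefHull.stalkMapₗ ψ x (RefHull.stalkMapₗ φ x m) := by
  obtain ⟨U, hxU, s, rfl⟩ := TopCat.Presheaf.exists_germ_eq F.presheaf m
  have h1 := RefHull.stalkMapₗ_germ (φ ≫ ψ) x hxU s
  have h2 := RefHull.stalkMapₗ_germ φ x hxU s
  have h3 := RefHull.stalkMapₗ_germ ψ x hxU (φ.app U s)
  rw [h1, h2, h3]
  rfl

lemma stalkToO_comp {G G' : X.Modules} (ι : G ⟶ Coh.structureModule X)
    (ι' : G' ⟶ Coh.structureModule X) (κ : G ⟶ G') (hκ : κ ≫ ι' = ι) (x : X)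
    (m : G.presheaf.stalk x) :
    stalkToO G ι x m = stalkToO G' ι' x (RefHull.stalkMapₗ κ x m) := by
  subst hκ
  show (Groth.Agent.H2.HomSh.unitStalkEquiv x).symm (RefHull.stalkMapₗ (κ ≫ ι') x m) =
    (Groth.Agent.H2.HomSh.unitStalkEquiv x).symm (RefHull.stalkMapₗ ι' x (RefHull.stalkMapₗ κ x m))
  rw [stalkMap_comp]

set_option maxHeartbeats 1600000 in
/-- **uniform local stabilisation** near the generic point of an irreducible closed subset. -/
theorem local_stab [IsNoetherian X] {G : X.Modules} (ι : G ⟶ Coh.structureModule X) [Mono ι]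
    (ξ : X) :
    ∃ W : X.Opens, ξ ∈ W ∧ ∀ (G' : X.Modules) (ι' : G' ⟶ Coh.structureModule X) (_ : Mono ι')
      (κ : G ⟶ G'), κ ≫ ι' = ι → Function.Surjective (RefHull.stalkMapₗ κ ξ) →
      ∀ y ∈ W, ξ ⤳ y → Function.Surjective (RefHull.stalkMapₗ κ y) := by
  classical
  -- Step 1: the stalk at `ξ` is finitely generated
  haveI : IsNoetherian (X.presheaf.stalk ξ) (G.presheaf.stalk ξ) :=
    isNoetherian_of_injective (stalkToO G ι ξ) (stalkToO_injective ι ξ)
  obtain ⟨n, g, hg⟩ := Submodule.fg_iff_exists_fin_generating_family.mp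
    (IsNoetherian.noetherian (⊤ : Submodule (X.presheaf.stalk ξ) (G.presheaf.stalk ξ)))
  -- Step 2: generators as sections over a common affine open
  choose V hξV s hs using fun i => TopCat.Presheaf.exists_germ_eq G.presheaf (g i)
  have hξV₀ : ξ ∈ (⨅ i, V i : X.Opens) := by
    rw [← SetLike.mem_coe, Opens.coe_iInf]
    exact Set.mem_iInter.mpr hξV
  obtain ⟨U, hU, hξU, hUV₀⟩ :=
    exists_isAffineOpen_mem_and_subset (x := ξ) (U := ⨅ i, V i) hξV₀
  have hUV : ∀ i, U ≤ V i := fun i => (show U ≤ ⨅ i, V i from hUV₀).trans (iInf_le V i)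
  let t : Fin n → Γ(G, U) := fun i => G.presheaf.map (homOfLE (hUV i)).op (s i)
  have ht : ∀ i, G.presheaf.germ U ξ hξU (t i) = g i := fun i => by
    rw [← hs i]
    exact QC.germ_res G ξ (hUV i) hξU (s i)
  -- Step 3: the saturation denominator
  haveI : IsNoetherianRing Γ(X, U) := IsLocallyNoetherian.component_noetherian ⟨U, hU⟩
  let a : Fin n → Γ(X, U) := fun i => ι.app U (t i)
  let 𝔞 : Ideal Γ(X, U) := Ideal.span (Set.range a)
  let p : Ideal Γ(X, U) := (hU.primeIdealOf ⟨ξ, hξU⟩).asIdeal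
  obtain ⟨f, hfp, hf⟩ := exists_sat 𝔞 p
  have hξW : ξ ∈ X.basicOpen f :=
    (X.mem_basicOpen f ξ hξU).mpr (QC.isUnit_germ_of_notMem hU ξ hξU f hfp)
  refine ⟨X.basicOpen f, hξW, ?_⟩
  intro G' ι' _ κ hκ hsurj y hyW hξy
  have hκapp : ∀ (V : X.Opens) (s : Γ(G, V)), ι.app V s = ι'.app V (κ.app V s) := by
    intro V s
    rw [← hκ]
    rfl
  have hyU : y ∈ U := X.basicOpen_le f hyW
  intro g₀
  obtain ⟨V', hyV', s₀, rfl⟩ := TopCat.Presheaf.exists_germ_eq G'.presheaf g₀
  obtain ⟨h, hDV, hyD⟩ :=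
    hU.exists_basicOpen_le (V := V' ⊓ X.basicOpen f) ⟨y, ⟨hyV', hyW⟩⟩ hyU
  have hDV' : X.basicOpen h ≤ V' := hDV.trans inf_le_left
  have hDW : X.basicOpen h ≤ X.basicOpen f := hDV.trans inf_le_right
  have hDU : X.basicOpen h ≤ U := X.basicOpen_le h
  have hξD : ξ ∈ X.basicOpen h := hξy.mem_open (X.basicOpen h).2 hyD
  let s' : Γ(G', X.basicOpen h) := G'.presheaf.map (homOfLE hDV').op s₀
  let b : Γ(X, X.basicOpen h) := ι'.app (X.basicOpen h) s'
  -- Step 4: clear denominators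
  haveI := hU.isLocalization_basicOpen h
  obtain ⟨⟨c, m⟩, hcm⟩ := IsLocalization.surj (Submonoid.powers h) b
  let ρ : Γ(X, U) →+* Γ(X, X.basicOpen h) := (X.presheaf.map (homOfLE hDU).op).hom
  have hcm' : b * ρ (m : Γ(X, U)) = ρ c := hcm
  -- Step 5: at `ξ`
  obtain ⟨g', hg'⟩ := hsurj (G'.presheaf.germ (X.basicOpen h) ξ hξD s')
  have hspan : g' ∈ Submodule.span (X.presheaf.stalk ξ) (Set.range g) := by
    rw [hg]
    trivial
  obtain ⟨e, he⟩ := (Submodule.mem_span_range_iff_exists_fun _).mp hspan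
  have h5 : X.presheaf.germ (X.basicOpen h) ξ hξD b =
      ∑ i, e i * X.presheaf.germ U ξ hξU (a i) := by
    have h50 : stalkToO G' ι' ξ (G'.presheaf.germ (X.basicOpen h) ξ hξD s') =
        stalkToO G ι ξ g' := by
      rw [← hg']
      exact (stalkToO_comp ι ι' κ hκ ξ g').symm
    have h51 := congrArg (stalkToO G ι ξ) he.symm
    rw [map_sum] at h51
    rw [stalkToO_germ] at h50
    rw [show X.presheaf.germ (X.basicOpen h) ξ hξD b = _ from h50, h51]
    refine Finset.sum_congr rfl fun i _ => ?_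
    rw [map_smul, smul_eq_mul, ← ht i, stalkToO_germ]
  letI : Algebra Γ(X, U) (X.presheaf.stalk ξ) :=
    TopCat.Presheaf.algebra_section_stalk X.presheaf ⟨ξ, hξU⟩
  haveI := hU.isLocalization_stalk ⟨ξ, hξU⟩
  have halg : ∀ r : Γ(X, U), algebraMap Γ(X, U) (X.presheaf.stalk ξ) r =
      X.presheaf.germ U ξ hξU r := fun r => rfl
  have h6 : algebraMap Γ(X, U) (X.presheaf.stalk ξ) c ∈
      Ideal.map (algebraMap Γ(X, U) (X.presheaf.stalk ξ)) 𝔞 := by
    have e1 : X.presheaf.germ U ξ hξU c =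
        X.presheaf.germ (X.basicOpen h) ξ hξD b * X.presheaf.germ U ξ hξU (m : Γ(X, U)) := by
      rw [← QC.sgerm_res ξ hDU hξD c, ← QC.sgerm_res ξ hDU hξD (m : Γ(X, U)), ← map_mul]
      exact congrArg _ hcm'.symm
    rw [halg, e1, h5, Finset.sum_mul]
    refine Ideal.sum_mem _ fun i _ => ?_
    rw [mul_assoc, mul_comm (X.presheaf.germ U ξ hξU (a i)), ← mul_assoc, ← halg (a i)]
    exact Ideal.mul_mem_left _ _ (Ideal.mem_map_of_mem _ (Ideal.subset_span ⟨i, rfl⟩))
  obtain ⟨u, hu, huc⟩ := (IsLocalization.algebraMap_mem_map_algebraMap_iff p.primeCompl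
    (X.presheaf.stalk ξ) 𝔞 c).mp h6
  have hfc : f * c ∈ 𝔞 := hf c u hu huc
  obtain ⟨r, hr⟩ := Ideal.mem_span_range_iff_exists_fun.mp hfc
  -- Step 6: restrict to `D(h)`
  have hu1 : IsUnit (ρ (m : Γ(X, U))) := IsLocalization.map_units _ m
  have hu2 : IsUnit (ρ f) := by
    have h1 := X.toRingedSpace.isUnit_res_basicOpen f
    have h2 := h1.map (X.presheaf.map (homOfLE hDW).op).hom
    have h3 : (X.presheaf.map (homOfLE hDW).op).hom
        ((X.presheaf.map (homOfLE (X.basicOpen_le f)).op).hom f) = ρ f := by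
      show (X.presheaf.map (homOfLE (X.basicOpen_le f)).op ≫
        X.presheaf.map (homOfLE hDW).op) f = _
      rw [← X.presheaf.map_comp]
      rfl
    rw [← h3]
    exact h2
  obtain ⟨w, hw⟩ := hu2.mul hu1
  have hb : b = ∑ i, (↑w⁻¹ * ρ (r i)) * ρ (a i) := by
    have h7 : ρ (f * c) = ↑w * b := by
      rw [map_mul, hw, ← hcm']
      ring
    have h8 : ρ (f * c) = ∑ i, ρ (r i) * ρ (a i) := by
      rw [← hr, map_sum]
      simp only [map_mul]
    calc b = ↑w⁻¹ * (↑w * b) := by rw [← mul_assoc, Units.inv_mul, one_mul]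
      _ = ↑w⁻¹ * ∑ i, ρ (r i) * ρ (a i) := by rw [← h7, h8]
      _ = _ := by
        rw [Finset.mul_sum]
        simp only [mul_assoc]
  have hρa : ∀ i, ρ (a i) =
      (show Γ(X, X.basicOpen h) from
        ι'.app (X.basicOpen h) (κ.app (X.basicOpen h)
          (G.presheaf.map (homOfLE hDU).op (t i)))) := fun i => by
    have h1 := (QC.app_res ι hDU (t i)).symm
    have h2 := hκapp (X.basicOpen h) (G.presheaf.map (homOfLE hDU).op (t i))
    exact h1.trans h2
  have hs' : s' = ∑ i, (↑w⁻¹ * ρ (r i)) •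
      κ.app (X.basicOpen h) (G.presheaf.map (homOfLE hDU).op (t i)) := by
    apply QC.mono_app ι' (X.basicOpen h)
    rw [map_sum]
    refine (show ι'.app (X.basicOpen h) s' = (show Γ(Coh.structureModule X, X.basicOpen h) from b)
      from rfl).trans ?_
    rw [hb]
    refine Finset.sum_congr rfl fun i _ => ?_
    rw [Scheme.Modules.Hom.app_smul, hρa i]
    rfl
  -- Step 7: conclude at `y`
  have hfinal : G'.presheaf.germ V' y hyV' s₀ =
      ∑ i, X.presheaf.germ (X.basicOpen h) y hyD (↑w⁻¹ * ρ (r i)) •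
        G'.presheaf.germ (X.basicOpen h) y hyD
          (κ.app (X.basicOpen h) (G.presheaf.map (homOfLE hDU).op (t i))) := by
    rw [← QC.germ_res G' y hDV' hyD s₀]
    show G'.presheaf.germ (X.basicOpen h) y hyD s' = _
    rw [hs', map_sum]
    refine Finset.sum_congr rfl fun i _ => ?_
    rw [QC.germ_smul]
  refine ⟨∑ i, X.presheaf.germ (X.basicOpen h) y hyD (↑w⁻¹ * ρ (r i)) •
    G.presheaf.germ (X.basicOpen h) y hyD (G.presheaf.map (homOfLE hDU).op (t i)), ?_⟩
  rw [hfinal, map_sum]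
  refine Finset.sum_congr rfl fun i _ => ?_
  rw [map_smul]
  have h9 := RefHull.stalkMapₗ_germ κ y hyD (G.presheaf.map (homOfLE hDU).op (t i))
  rw [h9]

/-- stalkwise surjectivity of a monomorphism gives an isomorphism. -/
lemma isIso_of_surjAt {G G' : X.Modules} (κ : G ⟶ G') [Mono κ]
    (h : ∀ y : X, Function.Surjective (RefHull.stalkMapₗ κ y)) : IsIso κ := by
  haveI : Epi κ := by
    rw [Groth.Agent.H4.FlatPull1.epi_iff_stalk]
    intro x
    rw [ModuleCat.epi_iff_surjective]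
    exact h x
  exact isIso_of_mono_of_epi κ

set_option maxHeartbeats 800000 in
/-- **ascending chain condition** for subobjects of a subsheaf of `O_X`, `X` Noetherian. -/
theorem chain_stab [IsNoetherian X] {E : X.Modules} (ιE : E ⟶ Coh.structureModule X) [Mono ιE]
    (c : ℕ →o Subobject E) : ∃ n : ℕ, ∀ m : ℕ, n ≤ m → c n = c m := by
  let G : ℕ → X.Modules := fun n => ((c n : Subobject E) : X.Modules)
  let ι : ∀ n, G n ⟶ Coh.structureModule X := fun n => (c n).arrow ≫ ιE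
  haveI : ∀ n, Mono (ι n) := fun n => mono_comp _ _
  let κ : ∀ n m, n ≤ m → (G n ⟶ G m) := fun n m h => Subobject.ofLE (c n) (c m) (c.monotone h)
  have hκ : ∀ n m (h : n ≤ m), κ n m h ≫ ι m = ι n := fun n m h => by
    show Subobject.ofLE _ _ _ ≫ (c m).arrow ≫ ιE = (c n).arrow ≫ ιE
    rw [← Category.assoc, Subobject.ofLE_arrow]
  have hκκ : ∀ n m l (h : n ≤ m) (h' : m ≤ l), κ n m h ≫ κ m l h' = κ n l (h.trans h') :=
    fun n m l h h' => Subobject.ofLE_comp_ofLE _ _ _ _ _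
  have mono_stab : ∀ n n' m (h : n ≤ n') (h' : n' ≤ m) (y : X),
      Function.Surjective (RefHull.stalkMapₗ (κ n m (h.trans h')) y) →
      Function.Surjective (RefHull.stalkMapₗ (κ n' m h') y) := by
    intro n n' m h h' y hs g'
    obtain ⟨g, hg⟩ := hs g'
    refine ⟨RefHull.stalkMapₗ (κ n n' h) y g, ?_⟩
    rw [← stalkMap_comp, hκκ n n' m h h']
    exact hg
  have key : ∀ Z : Set X, IsClosed Z → ∃ n : ℕ, ∀ m (h : n ≤ m), ∀ y ∈ Z,
      Function.Surjective (RefHull.stalkMapₗ (κ n m h) y) := by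
    apply Groth.Agent.H8.CNoeth.closed_induction
    · exact ⟨0, fun m h y hy => hy.elim⟩
    · intro Z hZ hZi ih
      obtain ⟨ξ, hξ⟩ := QuasiSober.sober hZi hZ
      have hξZ : closure ({ξ} : Set X) = Z := hξ.def
      let J : ℕ →o Submodule (X.presheaf.stalk ξ) (X.presheaf.stalk ξ) :=
        ⟨fun n => LinearMap.range (stalkToO (G n) (ι n) ξ), fun n m h => by
          rintro _ ⟨g, rfl⟩
          exact ⟨RefHull.stalkMapₗ (κ n m h) ξ g,
            (stalkToO_comp (ι n) (ι m) (κ n m h) (hκ n m h) ξ g).symm⟩⟩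
      obtain ⟨n₀, hn₀⟩ := monotone_stabilizes_iff_noetherian.mpr
        (inferInstance : IsNoetherian (X.presheaf.stalk ξ) (X.presheaf.stalk ξ)) J
      have hsurjξ : ∀ m (h : n₀ ≤ m),
          Function.Surjective (RefHull.stalkMapₗ (κ n₀ m h) ξ) := by
        intro m h g'
        have h1 : stalkToO (G m) (ι m) ξ g' ∈ J m := ⟨g', rfl⟩
        rw [← hn₀ m h] at h1
        obtain ⟨g, hg⟩ := h1
        refine ⟨g, stalkToO_injective (ι m) ξ ?_⟩
        rw [← stalkToO_comp (ι n₀) (ι m) (κ n₀ m h) (hκ n₀ m h) ξ g]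
        exact hg
      obtain ⟨W, hξW, hW⟩ := local_stab (ι n₀) ξ
      have hξmem : ξ ∈ Z := hξZ ▸ subset_closure (Set.mem_singleton ξ)
      have hcl : IsClosed (Z ∩ (W : Set X)ᶜ) := hZ.inter W.2.isClosed_compl
      have hlt : Z ∩ (W : Set X)ᶜ ⊂ Z :=
        ⟨Set.inter_subset_left, fun hsub => (hsub hξmem).2 hξW⟩
      obtain ⟨n₁, hn₁⟩ := ih _ hcl hlt
      refine ⟨max n₀ n₁, fun m h y hy => ?_⟩
      by_cases hyW : y ∈ W
      · apply mono_stab n₀ (max n₀ n₁) m (le_max_left _ _) h y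
        have h0 : n₀ ≤ m := (le_max_left n₀ n₁).trans h
        exact hW (G m) (ι m) inferInstance (κ n₀ m h0) (hκ n₀ m h0) (hsurjξ m h0) y hyW
          (by rw [specializes_iff_mem_closure, hξZ]; exact hy)
      · apply mono_stab n₁ (max n₀ n₁) m (le_max_right _ _) h y
        exact hn₁ m ((le_max_right n₀ n₁).trans h) y ⟨hy, hyW⟩
    · rintro Z₁ Z₂ - - ⟨n₁, h₁⟩ ⟨n₂, h₂⟩
      refine ⟨max n₁ n₂, fun m h y hy => ?_⟩
      rcases hy with hy | hy
      · apply mono_stab n₁ (max n₁ n₂) m (le_max_left _ _) h y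
        exact h₁ m ((le_max_left n₁ n₂).trans h) y hy
      · apply mono_stab n₂ (max n₁ n₂) m (le_max_right _ _) h y
        exact h₂ m ((le_max_right n₁ n₂).trans h) y hy
  obtain ⟨n, hn⟩ := key Set.univ isClosed_univ
  refine ⟨n, fun m h => ?_⟩
  haveI : Mono (κ n m h) := by
    show Mono (Subobject.ofLE _ _ _)
    infer_instance
  haveI := isIso_of_surjAt (κ n m h) (fun y => hn m h y trivial)
  refine le_antisymm (c.monotone h) (Subobject.le_of_comm (inv (κ n m h)) ?_)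
  rw [IsIso.inv_comp_eq]
  exact (Subobject.ofLE_arrow _).symm

end Groth.Agent.LD.NoethObj
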