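import Mathlib

/-!
# Indecomposable injective subobjects in a locally Noetherian Grothendieck category with points

Abstract form: an abelian (Grothendieck) category with a jointly faithful family of exact,
coproduct-preserving functors to module categories ("points").  We construct, inside a nonzero
injective object receiving a nonzero map from a Noetherian object, an indecomposable injective
subobject (uniform subobject + maximal essential extension + maximal complement).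
-/

set_option autoImplicit false
universe w' u' u u₁
open CategoryTheory CategoryTheory.Limits

namespace Groth.Agent.LD.Decomp

noncomputable section

variable {𝒜 : Type u₁} [Category.{u} 𝒜] [Abelian 𝒜]

/-- essential monomorphisms. -/
def Essential {A B : 𝒜} (a : A ⟶ B) : Prop := ∀ ⦃Y : 𝒜⦄ (f : B ⟶ Y), Mono (a ≫ f) → Mono f

/-- uniform (coirreducible) objects. -/
def Uniform (B : 𝒜) : Prop :=
  ¬ IsZero B ∧ ∀ ⦃A₁ A₂ : 𝒜⦄ (a₁ : A₁ ⟶ B) (a₂ : A₂ ⟶ B), Mono a₁ → Mono a₂ →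
    IsZero (pullback a₁ a₂) → IsZero A₁ ∨ IsZero A₂

/-- indecomposable objects (nonzero-ness not included). -/
def Indecomposable (E : 𝒜) : Prop :=
  ∀ (A B : 𝒜), Nonempty (E ≅ A ⊞ B) → IsZero A ∨ IsZero B

lemma essential_of_isIso {A B : 𝒜} (a : A ⟶ B) [IsIso a] : Essential a := by
  intro Y f hf
  haveI := hf
  have h : f = inv a ≫ (a ≫ f) := by rw [IsIso.inv_hom_id_assoc]
  rw [h]
  infer_instance

lemma Essential.comp {A B C : 𝒜} {a : A ⟶ B} {b : B ⟶ C} (ha : Essential a) (hb : Essential b) :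
    Essential (a ≫ b) := by
  intro Y f hf
  apply hb
  apply ha
  rwa [Category.assoc] at hf

lemma injective_of_retract {A Q : 𝒜} [Injective Q] (i : A ⟶ Q) (r : Q ⟶ A) (h : i ≫ r = 𝟙 A) :
    Injective A := by
  constructor
  intro X Y g f _
  refine ⟨Injective.factorThru (g ≫ i) f ≫ r, ?_⟩
  rw [← Category.assoc, Injective.comp_factorThru, Category.assoc, h, Category.comp_id]

lemma isIso_cokernel_π_of_eq_zero {A B : 𝒜} (f : A ⟶ B) (h : f = 0) : IsIso (cokernel.π f) := by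
  subst h
  infer_instance

/-- **uniform subobjects**: a nonzero map from a Noetherian object to an injective object gives a
uniform subobject of the injective object. -/
theorem exists_uniform_sub {G Q : 𝒜} [WellFoundedGT (Subobject G)] [Injective Q] (ψ₀ : G ⟶ Q)
    (hψ₀ : ψ₀ ≠ 0) : ∃ (B : 𝒜) (β : B ⟶ Q), Mono β ∧ Uniform B := by
  obtain ⟨K, ⟨ψ, hψ, rfl⟩, hmax⟩ := wellFounded_gt.has_min
    {K : Subobject G | ∃ ψ : G ⟶ Q, ψ ≠ 0 ∧ K = Subobject.mk (kernel.ι ψ)} ⟨_, ψ₀, hψ₀, rfl⟩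
  refine ⟨image ψ, image.ι ψ, inferInstance, ?_, ?_⟩
  · intro hB
    apply hψ
    rw [← image.fac ψ, hB.eq_of_tgt (factorThruImage ψ) 0, zero_comp]
  · intro A₁ A₂ a₁ a₂ _ _ hP
    by_contra hcon
    push_neg at hcon
    obtain ⟨h₁, h₂⟩ := hcon
    haveI hmono : Mono (a₂ ≫ cokernel.π a₁) := by
      apply Preadditive.mono_of_cancel_zero
      intro Z g hg
      have hg' : (g ≫ a₂) ≫ cokernel.π a₁ = 0 := by rw [Category.assoc]; exact hg
      have hl : Abelian.monoLift a₁ (g ≫ a₂) hg' ≫ a₁ = g ≫ a₂ := Abelian.monoLift_comp _ _ _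
      have h0 : pullback.lift (Abelian.monoLift a₁ (g ≫ a₂) hg') g hl = 0 := hP.eq_of_tgt _ _
      have h1 : g = pullback.lift (Abelian.monoLift a₁ (g ≫ a₂) hg') g hl ≫ pullback.snd _ _ := by
        rw [pullback.lift_snd]
      rw [h1, h0, zero_comp]
    have hφ : a₂ ≫ cokernel.π a₁ ≫
        Injective.factorThru (a₂ ≫ image.ι ψ) (a₂ ≫ cokernel.π a₁) = a₂ ≫ image.ι ψ := by
      rw [← Category.assoc]
      exact Injective.comp_factorThru _ _
    generalize Injective.factorThru (a₂ ≫ image.ι ψ) (a₂ ≫ cokernel.π a₁) = φ at hφ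
    obtain ⟨ψ', hψ'def⟩ : ∃ ψ' : G ⟶ Q, ψ' = factorThruImage ψ ≫ cokernel.π a₁ ≫ φ := ⟨_, rfl⟩
    have hψ' : ψ' ≠ 0 := by
      intro h
      have h1 : cokernel.π a₁ ≫ φ = 0 := by
        rw [← cancel_epi (factorThruImage ψ), ← hψ'def, h, comp_zero]
      have h2 : a₂ ≫ image.ι ψ = 0 := by rw [← hφ, h1, comp_zero]
      exact h₂ (IsZero.of_mono_eq_zero (a₂ ≫ image.ι ψ) h2)
    have hk : kernel.ι ψ ≫ factorThruImage ψ = 0 := by
      rw [← cancel_mono (image.ι ψ), Category.assoc, image.fac, kernel.condition, zero_comp]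
    have hk0 : kernel.ι ψ ≫ ψ' = 0 := by
      rw [hψ'def, ← Category.assoc, hk, zero_comp]
    have hle : Subobject.mk (kernel.ι ψ) ≤ Subobject.mk (kernel.ι ψ') :=
      Subobject.mk_le_mk_of_comm (kernel.lift ψ' (kernel.ι ψ) hk0) (kernel.lift_ι _ _ _)
    have heq : Subobject.mk (kernel.ι ψ') = Subobject.mk (kernel.ι ψ) := by
      by_contra hne
      exact hmax _ ⟨ψ', hψ', rfl⟩ (lt_of_le_of_ne hle (Ne.symm hne))
    have hu : Subobject.ofMkLEMk _ _ heq.le ≫ kernel.ι ψ = kernel.ι ψ' :=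
      Subobject.ofMkLEMk_comp heq.le
    have hk' : kernel.ι ψ' ≫ factorThruImage ψ = 0 := by
      rw [← hu, Category.assoc, hk, comp_zero]
    have hp1 : pullback.fst (factorThruImage ψ) a₁ ≫ ψ' = 0 := by
      rw [hψ'def, pullback.condition_assoc, cokernel.condition_assoc, zero_comp, comp_zero]
    have hp2 : pullback.fst (factorThruImage ψ) a₁ ≫ factorThruImage ψ = 0 := by
      rw [← kernel.lift_ι ψ' _ hp1, Category.assoc, hk', comp_zero]
    have hp3 : pullback.snd (factorThruImage ψ) a₁ ≫ a₁ = 0 := by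
      rw [← pullback.condition, hp2]
    have ha₁ : a₁ = 0 := by
      rw [← cancel_epi (pullback.snd (factorThruImage ψ) a₁), hp3, comp_zero]
    exact h₁ (IsZero.of_mono_eq_zero a₁ ha₁)

/-! ### Points -/

variable {P : Type*} {R : P → Type u'} [∀ x, Ring (R x)]
variable (Φ : ∀ x, 𝒜 ⥤ ModuleCat.{w'} (R x)) [∀ x, (Φ x).Additive]
  [∀ x, PreservesFiniteLimits (Φ x)] [∀ x, PreservesFiniteColimits (Φ x)]

/-- joint faithfulness of a family of functors. -/
def JointlyFaithful : Prop := ∀ ⦃A B : 𝒜⦄ (χ : A ⟶ B), (∀ x, (Φ x).map χ = 0) → χ = 0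

omit [Abelian 𝒜] [∀ x, (Φ x).Additive] [∀ x, PreservesFiniteLimits (Φ x)]
  [∀ x, PreservesFiniteColimits (Φ x)] in
lemma map_comp_apply (x : P) {A B C : 𝒜} (f : A ⟶ B) (g : B ⟶ C) (y : (Φ x).obj A) :
    ((Φ x).map (f ≫ g)).hom y = ((Φ x).map g).hom (((Φ x).map f).hom y) := by
  rw [(Φ x).map_comp, ModuleCat.hom_comp, LinearMap.comp_apply]

lemma map_injective (x : P) {A B : 𝒜} (f : A ⟶ B) [Mono f] :
    Function.Injective ((Φ x).map f).hom :=
  (ModuleCat.mono_iff_injective _).1 inferInstance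

lemma map_surjective (x : P) {A B : 𝒜} (f : A ⟶ B) [Epi f] :
    Function.Surjective ((Φ x).map f).hom :=
  (ModuleCat.epi_iff_surjective _).1 inferInstance

lemma exists_of_exact (x : P) {S : ShortComplex 𝒜} (hS : S.Exact) (y : (Φ x).obj S.X₂)
    (hy : ((Φ x).map S.g).hom y = 0) : ∃ z : (Φ x).obj S.X₁, ((Φ x).map S.f).hom z = y :=
  (ShortComplex.moduleCat_exact_iff _).1 (hS.map (Φ x)) y hy

lemma exists_of_cokernel_π_eq_zero (x : P) {K Q : 𝒜} (k : K ⟶ Q) (y : (Φ x).obj Q)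
    (hy : ((Φ x).map (cokernel.π k)).hom y = 0) : ∃ z : (Φ x).obj K, ((Φ x).map k).hom z = y :=
  exists_of_exact Φ x (S := ShortComplex.mk k (cokernel.π k) (cokernel.condition k))
    (ShortComplex.exact_of_g_is_cokernel _ (cokernelIsCokernel k)) y hy

lemma iSup_range_ι_eq_top {ι : Type u} (E : ι → 𝒜) [HasCoproduct E] (x : P)
    [PreservesColimit (Discrete.functor E) (Φ x)] :
    (⨆ j, LinearMap.range ((Φ x).map (Sigma.ι E j)).hom) = ⊤ := by
  let N : Submodule (R x) ((Φ x).obj (∐ E)) :=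
    ⨆ j, LinearMap.range ((Φ x).map (Sigma.ι E j)).hom
  show N = ⊤
  have hc : IsColimit ((Φ x).mapCocone (colimit.cocone (Discrete.functor E))) :=
    isColimitOfPreserves (Φ x) (colimit.isColimit _)
  let π : (Φ x).obj (∐ E) ⟶ ModuleCat.of (R x) ((Φ x).obj (∐ E) ⧸ N) := ModuleCat.ofHom N.mkQ
  have hπ : π = 0 := by
    apply hc.hom_ext
    rintro ⟨j⟩
    ext z
    show N.mkQ (((Φ x).map (Sigma.ι E j)).hom z) = 0
    rw [Submodule.mkQ_apply, Submodule.Quotient.mk_eq_zero]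
    exact Submodule.mem_iSup_of_mem j ⟨z, rfl⟩
  rw [eq_top_iff]
  intro z _
  have h1 : N.mkQ z = 0 := congrArg (fun f => f.hom z) hπ
  rwa [Submodule.mkQ_apply, Submodule.Quotient.mk_eq_zero] at h1

lemma desc_induction {ι : Type u} (E : ι → 𝒜) [HasCoproduct E] {A : 𝒜} (d : ∀ j, E j ⟶ A) (x : P)
    [PreservesColimit (Discrete.functor E) (Φ x)] (Pr : (Φ x).obj A → Prop) (h0 : Pr 0)
    (hadd : ∀ a b, Pr a → Pr b → Pr (a + b)) (h : ∀ j z, Pr (((Φ x).map (d j)).hom z))
    (w : (Φ x).obj (∐ E)) : Pr (((Φ x).map (Sigma.desc d)).hom w) := by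
  have hw : w ∈ ⨆ j, LinearMap.range ((Φ x).map (Sigma.ι E j)).hom := by
    rw [iSup_range_ι_eq_top Φ E x]
    exact Submodule.mem_top
  refine Submodule.iSup_induction (fun j => LinearMap.range ((Φ x).map (Sigma.ι E j)).hom)
    (motive := fun w => Pr (((Φ x).map (Sigma.desc d)).hom w)) hw ?_ ?_ ?_
  · rintro j _ ⟨z, rfl⟩
    rw [← map_comp_apply Φ x (Sigma.ι E j) (Sigma.desc d) z, Sigma.ι_desc]
    exact h j z
  · rw [map_zero]
    exact h0
  · intro a b ha hb
    rw [map_add]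
    exact hadd _ _ ha hb

variable {Φ}

lemma JointlyFaithful.mono (hf : JointlyFaithful Φ) {A B : 𝒜} (f : A ⟶ B)
    (h : ∀ x, Function.Injective ((Φ x).map f).hom) : Mono f := by
  apply Preadditive.mono_of_cancel_zero
  intro Z g hg
  apply hf
  intro x
  ext y
  apply h x
  rw [← map_comp_apply Φ x g f y, hg, (Φ x).map_zero]
  simp

lemma JointlyFaithful.isZero (hf : JointlyFaithful Φ) (A : 𝒜)
    (h : ∀ x (y : (Φ x).obj A), y = 0) : IsZero A := by
  rw [IsZero.iff_id_eq_zero]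
  apply hf
  intro x
  ext y
  rw [h x y]
  simp

lemma JointlyFaithful.exists_ne_zero (hf : JointlyFaithful Φ) {A : 𝒜} (h : ¬ IsZero A) :
    ∃ x, ∃ y : (Φ x).obj A, y ≠ 0 := by
  by_contra hcon
  push_neg at hcon
  exact h (hf.isZero A hcon)

variable (Φ)
variable [IsGrothendieckAbelian.{u} 𝒜] [∀ x, PreservesColimitsOfSize.{u, u} (Φ x)]

/-- **AB5 through points**: an element of (a point of) the supremum of a chain of subobjects comes
from a member of the chain. -/
theorem exists_mem_chain_aux {A : 𝒜} (c : Set (Subobject A)) (hc : IsChain (· ≤ ·) c)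
    (hne : c.Nonempty) (x : P)
    (y : (Φ x).obj ((Subobject.mk (image.ι (Subobject.smallCoproductDesc.{u} c)) :
      Subobject A) : 𝒜)) :
    ∃ K ∈ c, ∃ y' : (Φ x).obj (K : 𝒜), ((Φ x).map K.arrow).hom y' =
      ((Φ x).map (Subobject.mk (image.ι (Subobject.smallCoproductDesc.{u} c))).arrow).hom y := by
  obtain ⟨w, hw⟩ := map_surjective Φ x (factorThruImage (Subobject.smallCoproductDesc.{u} c))
    (((Φ x).map (Subobject.underlyingIso
      (image.ι (Subobject.smallCoproductDesc.{u} c))).hom).hom y)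
  have h1 : ((Φ x).map (Subobject.mk (image.ι (Subobject.smallCoproductDesc.{u} c))).arrow).hom y
      = ((Φ x).map (Subobject.smallCoproductDesc.{u} c)).hom w := by
    rw [← Subobject.underlyingIso_hom_comp_eq_mk, map_comp_apply, ← hw, ← map_comp_apply,
      image.fac]
  rw [h1]
  refine desc_induction Φ
    (fun j : ↥(equivShrink (Subobject A) '' c) =>
      (((equivShrink (Subobject A)).symm j : Subobject A) : 𝒜))
    (fun j => ((equivShrink (Subobject A)).symm j).arrow) x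
    (fun a => ∃ K ∈ c, ∃ y' : (Φ x).obj (K : 𝒜), ((Φ x).map K.arrow).hom y' = a) ?_ ?_ ?_ w
  · obtain ⟨K₀, hK₀⟩ := hne
    exact ⟨K₀, hK₀, 0, map_zero _⟩
  · rintro a b ⟨K₁, hK₁, y₁, rfl⟩ ⟨K₂, hK₂, y₂, rfl⟩
    rcases hc.total hK₁ hK₂ with h | h
    · refine ⟨K₂, hK₂, ((Φ x).map (Subobject.ofLE K₁ K₂ h)).hom y₁ + y₂, ?_⟩
      rw [map_add, ← map_comp_apply, Subobject.ofLE_arrow]
    · refine ⟨K₁, hK₁, y₁ + ((Φ x).map (Subobject.ofLE K₂ K₁ h)).hom y₂, ?_⟩
      rw [map_add, ← map_comp_apply, Subobject.ofLE_arrow]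
  · rintro ⟨j, hj⟩ z
    refine ⟨(equivShrink (Subobject A)).symm j, ?_, z, rfl⟩
    obtain ⟨K, hK, rfl⟩ := hj
    rw [Equiv.symm_apply_apply]
    exact hK

theorem exists_mem_chain {A : 𝒜} (c : Set (Subobject A)) (hc : IsChain (· ≤ ·) c)
    (hne : c.Nonempty) (x : P) (y : (Φ x).obj ((sSup c : Subobject A) : 𝒜)) :
    ∃ K ∈ c, ∃ y' : (Φ x).obj (K : 𝒜), ((Φ x).map K.arrow).hom y' =
      ((Φ x).map (sSup c : Subobject A).arrow).hom y :=
  exists_mem_chain_aux Φ c hc hne x y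

/-- `E` is an essential extension of `b` inside `Q`. -/
def IsEssOver {B Q : 𝒜} (b : B ⟶ Q) (E : Subobject Q) : Prop :=
  ∃ bE : B ⟶ (E : 𝒜), bE ≫ E.arrow = b ∧ Essential bE

variable {Φ}

/-- maximal essential extensions inside an object. -/
theorem exists_maximal_essential (hf : JointlyFaithful Φ) {B Q : 𝒜} (b : B ⟶ Q) [Mono b] :
    ∃ E : Subobject Q, Maximal (fun E => IsEssOver b E) E := by
  have h0 : Subobject.mk b ∈ {E : Subobject Q | IsEssOver b E} :=
    ⟨(Subobject.underlyingIso b).inv, Subobject.underlyingIso_arrow b, essential_of_isIso _⟩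
  have ih : ∀ c ⊆ {E : Subobject Q | IsEssOver b E}, IsChain (· ≤ ·) c → ∀ y ∈ c,
      ∃ ub ∈ {E : Subobject Q | IsEssOver b E}, ∀ z ∈ c, z ≤ ub := by
    intro c hcs hc K₀ hK₀
    refine ⟨sSup c, ?_, fun z hz => le_sSup hz⟩
    obtain ⟨b₀, hb₀, -⟩ := hcs hK₀
    have hle₀ : K₀ ≤ sSup c := le_sSup hK₀
    refine ⟨b₀ ≫ Subobject.ofLE K₀ (sSup c) hle₀,
      by rw [Category.assoc, Subobject.ofLE_arrow, hb₀], ?_⟩
    intro Y f hmono
    apply hf.mono
    intro x
    rw [injective_iff_map_eq_zero]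
    intro y hy
    obtain ⟨K, hK, y', hy'⟩ := exists_mem_chain Φ c hc ⟨K₀, hK₀⟩ x y
    have hleK : K ≤ sSup c := le_sSup hK
    have hy'' : y = ((Φ x).map (Subobject.ofLE K (sSup c) hleK)).hom y' := by
      apply map_injective Φ x (sSup c : Subobject Q).arrow
      rw [← map_comp_apply, Subobject.ofLE_arrow, hy']
    obtain ⟨bK, hbK, hessK⟩ := hcs hK
    have hmonoK : Mono (Subobject.ofLE K (sSup c) hleK ≫ f) := by
      apply hessK
      have h2 : bK ≫ Subobject.ofLE K (sSup c) hleK = b₀ ≫ Subobject.ofLE K₀ (sSup c) hle₀ := by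
        apply (cancel_mono (sSup c : Subobject Q).arrow).1
        rw [Category.assoc, Category.assoc, Subobject.ofLE_arrow, Subobject.ofLE_arrow, hbK, hb₀]
      rw [← Category.assoc, h2]
      exact hmono
    have h0 : ((Φ x).map (Subobject.ofLE K (sSup c) hleK ≫ f)).hom y' = 0 := by
      rw [map_comp_apply, ← hy'', hy]
    have h3 : y' = 0 := by
      haveI := hmonoK
      apply map_injective Φ x (Subobject.ofLE K (sSup c) hleK ≫ f)
      rw [h0, map_zero]
    rw [hy'', h3, map_zero]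
  obtain ⟨E, -, hE⟩ := zorn_le_nonempty₀ _ ih _ h0
  exact ⟨E, hE⟩

/-- maximal complements. -/
theorem exists_maximal_compl (hf : JointlyFaithful Φ) {E Q : 𝒜} (e : E ⟶ Q) [Mono e] :
    ∃ C : Subobject Q, Maximal (fun C : Subobject Q => Mono (e ≫ cokernel.π C.arrow)) C := by
  have h0 : (⊥ : Subobject Q) ∈ {C : Subobject Q | Mono (e ≫ cokernel.π C.arrow)} := by
    show Mono (e ≫ cokernel.π (⊥ : Subobject Q).arrow)
    haveI : IsIso (cokernel.π (⊥ : Subobject Q).arrow) :=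
      isIso_cokernel_π_of_eq_zero _ Subobject.bot_arrow
    infer_instance
  have ih : ∀ c ⊆ {C : Subobject Q | Mono (e ≫ cokernel.π C.arrow)}, IsChain (· ≤ ·) c →
      ∀ y ∈ c, ∃ ub ∈ {C : Subobject Q | Mono (e ≫ cokernel.π C.arrow)}, ∀ z ∈ c, z ≤ ub := by
    intro c hcs hc K₀ hK₀
    refine ⟨sSup c, ?_, fun z hz => le_sSup hz⟩
    show Mono (e ≫ cokernel.π (sSup c : Subobject Q).arrow)
    apply hf.mono
    intro x
    rw [injective_iff_map_eq_zero]
    intro y hy
    rw [map_comp_apply] at hy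
    obtain ⟨z, hz⟩ := exists_of_cokernel_π_eq_zero Φ x (sSup c : Subobject Q).arrow _ hy
    obtain ⟨K, hK, y', hy'⟩ := exists_mem_chain Φ c hc ⟨K₀, hK₀⟩ x z
    haveI hmonoK : Mono (e ≫ cokernel.π K.arrow) := hcs hK
    apply map_injective Φ x (e ≫ cokernel.π K.arrow)
    rw [map_zero, map_comp_apply, ← hz, ← hy', ← map_comp_apply, cokernel.condition,
      (Φ x).map_zero]
    simp
  obtain ⟨C, -, hC⟩ := zorn_le_nonempty₀ _ ih _ h0
  exact ⟨C, hC⟩

omit [IsGrothendieckAbelian.{u} 𝒜] in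
lemma essential_of_maximal_compl {E Q : 𝒜} (e : E ⟶ Q) [Mono e] (C : Subobject Q)
    (hC : Maximal (fun C : Subobject Q => Mono (e ≫ cokernel.π C.arrow)) C) :
    Essential (e ≫ cokernel.π C.arrow) := by
  intro Y f hmono
  have hCg : C.arrow ≫ cokernel.π C.arrow ≫ f = 0 := by
    rw [cokernel.condition_assoc, zero_comp]
  have hle : C ≤ Subobject.mk (kernel.ι (cokernel.π C.arrow ≫ f)) :=
    Subobject.le_mk_of_comm (kernel.lift _ C.arrow hCg) (kernel.lift_ι _ _ _)
  have harr : (Subobject.mk (kernel.ι (cokernel.π C.arrow ≫ f))).arrow ≫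
      cokernel.π C.arrow ≫ f = 0 := by
    rw [← Subobject.underlyingIso_hom_comp_eq_mk, Category.assoc, kernel.condition, comp_zero]
  have hC' : Mono (e ≫ cokernel.π (Subobject.mk (kernel.ι (cokernel.π C.arrow ≫ f))).arrow) := by
    apply Preadditive.mono_of_cancel_zero
    intro Z h hh
    have hh' : (h ≫ e) ≫ cokernel.π (Subobject.mk (kernel.ι (cokernel.π C.arrow ≫ f))).arrow
        = 0 := by
      rw [Category.assoc]
      exact hh
    have hl := Abelian.monoLift_comp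
      (Subobject.mk (kernel.ι (cokernel.π C.arrow ≫ f))).arrow (h ≫ e) hh'
    have h1 : h ≫ (e ≫ cokernel.π C.arrow) ≫ f = 0 := by
      have h2 : (h ≫ e) ≫ cokernel.π C.arrow ≫ f = 0 := by
        rw [← hl, Category.assoc, harr, comp_zero]
      simpa [Category.assoc] using h2
    haveI := hmono
    rw [← cancel_mono ((e ≫ cokernel.π C.arrow) ≫ f), h1, zero_comp]
  have heq : Subobject.mk (kernel.ι (cokernel.π C.arrow ≫ f)) ≤ C := hC.2 hC' hle
  have hk : kernel.ι (cokernel.π C.arrow ≫ f) ≫ cokernel.π C.arrow = 0 := by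
    rw [← Subobject.ofMkLE_arrow heq, Category.assoc, cokernel.condition, comp_zero]
  apply Preadditive.mono_of_cancel_zero
  intro Z h hh
  have hp1 : pullback.fst (cokernel.π C.arrow) h ≫ cokernel.π C.arrow ≫ f = 0 := by
    rw [pullback.condition_assoc, hh, comp_zero]
  have hp2 : pullback.fst (cokernel.π C.arrow) h ≫ cokernel.π C.arrow = 0 := by
    rw [← kernel.lift_ι _ _ hp1, Category.assoc, hk, comp_zero]
  have hp3 : pullback.snd (cokernel.π C.arrow) h ≫ h = 0 := by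
    rw [← pullback.condition, hp2]
  rw [← cancel_epi (pullback.snd (cokernel.π C.arrow) h), hp3, comp_zero]

/-- **indecomposable injective subobjects.** -/
theorem exists_indecomposable_injective_sub (hf : JointlyFaithful Φ) {G Q : 𝒜}
    [WellFoundedGT (Subobject G)] [Injective Q] (ψ₀ : G ⟶ Q) (hψ₀ : ψ₀ ≠ 0) :
    ∃ (E : 𝒜) (e : E ⟶ Q), Mono e ∧ Injective E ∧ ¬ IsZero E ∧ Indecomposable E := by
  obtain ⟨B, β, hβ, hBne, hBu⟩ := exists_uniform_sub ψ₀ hψ₀
  haveI := hβ
  obtain ⟨E, ⟨bE, hbE, hess⟩, hEmax⟩ := exists_maximal_essential hf β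
  obtain ⟨C, hCm, hCmax⟩ := exists_maximal_compl hf E.arrow
  haveI := hCm
  have hmess : Essential (E.arrow ≫ cokernel.π C.arrow) :=
    essential_of_maximal_compl E.arrow C ⟨hCm, hCmax⟩
  have hθ : (E.arrow ≫ cokernel.π C.arrow) ≫
      Injective.factorThru E.arrow (E.arrow ≫ cokernel.π C.arrow) = E.arrow :=
    Injective.comp_factorThru _ _
  generalize Injective.factorThru E.arrow (E.arrow ≫ cokernel.π C.arrow) = θ at hθ
  haveI hθmono : Mono θ := hmess θ (by rw [hθ]; infer_instance)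
  have hle : E ≤ Subobject.mk θ := Subobject.le_mk_of_comm (E.arrow ≫ cokernel.π C.arrow) hθ
  have hE' : IsEssOver β (Subobject.mk θ) := by
    refine ⟨bE ≫ (E.arrow ≫ cokernel.π C.arrow) ≫ (Subobject.underlyingIso θ).inv, ?_, ?_⟩
    · rw [Category.assoc, Category.assoc, Subobject.underlyingIso_arrow, hθ, hbE]
    · exact hess.comp (hmess.comp (essential_of_isIso _))
  have hge : Subobject.mk θ ≤ E := hEmax hE' hle
  have hr : E.arrow ≫ (cokernel.π C.arrow ≫ Subobject.ofMkLE θ E hge) = 𝟙 _ := by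
    apply (cancel_mono E.arrow).1
    rw [Category.assoc, Category.assoc, Subobject.ofMkLE_arrow, ← Category.assoc, hθ,
      Category.id_comp]
  haveI hmonobE : Mono bE := mono_of_mono_fac hbE
  refine ⟨(E : 𝒜), E.arrow, inferInstance, injective_of_retract E.arrow _ hr, ?_, ?_⟩
  · intro hz
    exact hBne (IsZero.of_mono_eq_zero bE (hz.eq_of_tgt _ _))
  · intro A₁ A₂ ⟨i⟩
    have hP : IsZero (pullback (kernel.ι (bE ≫ i.hom ≫ biprod.fst))
        (kernel.ι (bE ≫ i.hom ≫ biprod.snd))) := by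
      apply IsZero.of_mono_eq_zero (pullback.fst _ _ ≫ kernel.ι (bE ≫ i.hom ≫ biprod.fst))
      apply (cancel_mono (bE ≫ i.hom)).1
      rw [zero_comp]
      apply biprod.hom_ext
      · simp only [Category.assoc, zero_comp]
        rw [kernel.condition, comp_zero]
      · rw [pullback.condition]
        simp only [Category.assoc, zero_comp]
        rw [kernel.condition, comp_zero]
    rcases hBu _ _ inferInstance inferInstance hP with h | h
    · right
      have hm1 : Mono (bE ≫ i.hom ≫ biprod.fst) :=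
        Preadditive.mono_of_kernel_zero (h.eq_of_src _ _)
      have hm2 : Mono (i.hom ≫ biprod.fst) := hess _ hm1
      haveI : Mono (biprod.fst : A₁ ⊞ A₂ ⟶ A₁) := by
        have h4 : (biprod.fst : A₁ ⊞ A₂ ⟶ A₁) = i.inv ≫ (i.hom ≫ biprod.fst) := by
          rw [Iso.inv_hom_id_assoc]
        rw [h4]
        infer_instance
      have hinr : (biprod.inr : A₂ ⟶ A₁ ⊞ A₂) = 0 := by
        rw [← cancel_mono (biprod.fst : A₁ ⊞ A₂ ⟶ A₁), biprod.inr_fst, zero_comp]
      rw [IsZero.iff_id_eq_zero, ← biprod.inr_snd, hinr, zero_comp]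
    · left
      have hm1 : Mono (bE ≫ i.hom ≫ biprod.snd) :=
        Preadditive.mono_of_kernel_zero (h.eq_of_src _ _)
      have hm2 : Mono (i.hom ≫ biprod.snd) := hess _ hm1
      haveI : Mono (biprod.snd : A₁ ⊞ A₂ ⟶ A₂) := by
        have h4 : (biprod.snd : A₁ ⊞ A₂ ⟶ A₂) = i.inv ≫ (i.hom ≫ biprod.snd) := by
          rw [Iso.inv_hom_id_assoc]
        rw [h4]
        infer_instance
      have hinl : (biprod.inl : A₁ ⟶ A₁ ⊞ A₂) = 0 := by
        rw [← cancel_mono (biprod.snd : A₁ ⊞ A₂ ⟶ A₂), biprod.inl_snd, zero_comp]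
      rw [IsZero.iff_id_eq_zero, ← biprod.inl_fst, hinl, zero_comp]

end

end Groth.Agent.LD.Decomp
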