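import Mathlib
import Groth.Agent.Lib.Lead.Inj.DecompA

/-!
# Injective hulls in a Grothendieck category with points (abstract form)
-/

set_option autoImplicit false
universe w' u' u u₁
open CategoryTheory CategoryTheory.Limits

namespace Groth.Agent.LD.Decomp

noncomputable section

variable {𝒜 : Type u₁} [Category.{u} 𝒜] [Abelian 𝒜]

/-- a subobject meeting an essential subobject trivially is zero. -/
lemma isZero_of_essential_of_isZero_pullback {F E S : 𝒜} (i : F ⟶ E) (hi : Essential i)
    (m : S ⟶ E) [Mono m] (h : IsZero (pullback m i)) : IsZero S := by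
  have hmono : Mono (i ≫ cokernel.π m) := by
    apply Preadditive.mono_of_cancel_zero
    intro Z g hg
    have hg' : (g ≫ i) ≫ cokernel.π m = 0 := by rw [Category.assoc]; exact hg
    have hl : Abelian.monoLift m (g ≫ i) hg' ≫ m = g ≫ i := Abelian.monoLift_comp _ _ _
    have h0 : pullback.lift (Abelian.monoLift m (g ≫ i) hg') g hl = 0 := h.eq_of_tgt _ _
    have h1 : g = pullback.lift (Abelian.monoLift m (g ≫ i) hg') g hl ≫ pullback.snd _ _ := by
      rw [pullback.lift_snd]
    rw [h1, h0, zero_comp]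
  haveI : Mono (cokernel.π m) := hi _ hmono
  have hm : m = 0 := by
    rw [← cancel_mono (cokernel.π m), cokernel.condition, zero_comp]
  exact IsZero.of_mono_eq_zero m hm

/-- a retract is the kernel of the complementary idempotent. -/
def retractIsoKernel {A G : 𝒜} (θ : A ⟶ G) (r : G ⟶ A) (h : θ ≫ r = 𝟙 A) :
    A ≅ kernel (𝟙 G - r ≫ θ) where
  hom := kernel.lift _ θ (by
    rw [Preadditive.comp_sub, Category.comp_id, ← Category.assoc, h, Category.id_comp, sub_self])
  inv := kernel.ι _ ≫ r
  hom_inv_id := by rw [← Category.assoc, kernel.lift_ι, h]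
  inv_hom_id := by
    apply (cancel_mono (kernel.ι (𝟙 G - r ≫ θ))).1
    have h1 : kernel.ι (𝟙 G - r ≫ θ) ≫ (𝟙 G - r ≫ θ) = 0 := kernel.condition _
    rw [Preadditive.comp_sub, Category.comp_id, sub_eq_zero] at h1
    rw [Category.assoc, Category.assoc, kernel.lift_ι, Category.id_comp, ← h1]

variable {P : Type*} {R : P → Type u'} [∀ x, Ring (R x)]
variable {Φ : ∀ x, 𝒜 ⥤ ModuleCat.{w'} (R x)} [∀ x, (Φ x).Additive]
  [∀ x, PreservesFiniteLimits (Φ x)] [∀ x, PreservesFiniteColimits (Φ x)]
variable [IsGrothendieckAbelian.{u} 𝒜] [∀ x, PreservesColimitsOfSize.{u, u} (Φ x)]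

/-- a maximal essential extension inside an injective object is injective. -/
theorem injective_of_maximal_essential (hf : JointlyFaithful Φ) {B Q : 𝒜} [Injective Q]
    (b : B ⟶ Q) [Mono b] (E : Subobject Q) (hE : Maximal (fun E => IsEssOver b E) E) :
    Injective (E : 𝒜) := by
  obtain ⟨⟨bE, hbE, hess⟩, hEmax⟩ := hE
  obtain ⟨C, hCm, hCmax⟩ := exists_maximal_compl hf E.arrow
  haveI := hCm
  have hmess : Essential (E.arrow ≫ cokernel.π C.arrow) :=
    essential_of_maximal_compl E.arrow C ⟨hCm, hCmax⟩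
  have hθ : (E.arrow ≫ cokernel.π C.arrow) ≫
      Injective.factorThru E.arrow (E.arrow ≫ cokernel.π C.arrow) = E.arrow :=
    Injective.comp_factorThru _ _
  generalize Injective.factorThru E.arrow (E.arrow ≫ cokernel.π C.arrow) = θ at hθ
  haveI hθmono : Mono θ := hmess θ (by rw [hθ]; infer_instance)
  have hle : E ≤ Subobject.mk θ := Subobject.le_mk_of_comm (E.arrow ≫ cokernel.π C.arrow) hθ
  have hE' : IsEssOver b (Subobject.mk θ) := by
    refine ⟨bE ≫ (E.arrow ≫ cokernel.π C.arrow) ≫ (Subobject.underlyingIso θ).inv, ?_, ?_⟩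
    · rw [Category.assoc, Category.assoc, Subobject.underlyingIso_arrow, hθ, hbE]
    · exact hess.comp (hmess.comp (essential_of_isIso _))
  have hge : Subobject.mk θ ≤ E := hEmax hE' hle
  have hr : E.arrow ≫ (cokernel.π C.arrow ≫ Subobject.ofMkLE θ E hge) = 𝟙 _ := by
    apply (cancel_mono E.arrow).1
    rw [Category.assoc, Category.assoc, Subobject.ofMkLE_arrow, ← Category.assoc, hθ,
      Category.id_comp]
  exact injective_of_retract E.arrow _ hr

/-- **injective hulls exist.** -/
theorem exists_injective_hull (hf : JointlyFaithful Φ) (F : 𝒜) :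
    ∃ (E : 𝒜) (i : F ⟶ E), Mono i ∧ Essential i ∧ Injective E := by
  obtain ⟨E, hE⟩ := exists_maximal_essential hf (Injective.ι F)
  have hinj := injective_of_maximal_essential hf (Injective.ι F) E hE
  obtain ⟨⟨bE, hbE, hess⟩, -⟩ := hE
  exact ⟨(E : 𝒜), bE, mono_of_mono_fac hbE, hess, hinj⟩

end

end Groth.Agent.LD.Decomp
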