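import Mathlib
import Groth.Prelude.Def_CxOX
import Groth.Agent.Lib.Lead.Inj.NoethObj
import Groth.Agent.Lib.Lead.Baer.LocInj

/-!
# Extension by zero along a general open immersion; `j_! O_U` is a Noetherian object (S11158)
-/

set_option autoImplicit false
universe u v₁ v₂ u₁ u₂
open CategoryTheory CategoryTheory.Limits AlgebraicGeometry TopologicalSpace Opposite

namespace Groth.Agent.LD.ExtZeroGen

section Transfer

variable {𝒜 : Type u₁} [Category.{v₁} 𝒜] {ℬ : Type u₂} [Category.{v₂} ℬ]
  {L L₀ : ℬ ⥤ 𝒜} {R R₀ : 𝒜 ⥤ ℬ}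

lemma ofNatIsoRight_counit_app (adj₀ : L₀ ⊣ R₀) (i : R₀ ≅ R) (M : 𝒜) :
    (adj₀.ofNatIsoRight i).counit.app M = L₀.map (i.inv.app M) ≫ adj₀.counit.app M := by
  have h := Adjunction.homEquiv_ofNatIsoRight_symm_apply adj₀ i (𝟙 (R.obj M))
  rw [Adjunction.homEquiv_counit, Adjunction.homEquiv_counit] at h
  simpa using h

/-- the left adjoints of isomorphic functors are isomorphic. -/
noncomputable def leftIso (adj : L ⊣ R) (adj₀ : L₀ ⊣ R₀) (i : R₀ ≅ R) : L ≅ L₀ :=
  adj.leftAdjointUniq (adj₀.ofNatIsoRight i)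

lemma mono_counit_of_iso (adj : L ⊣ R) (adj₀ : L₀ ⊣ R₀) (i : R₀ ≅ R)
    (h : ∀ M, Mono (adj₀.counit.app M)) (M : 𝒜) : Mono (adj.counit.app M) := by
  rw [← Adjunction.leftAdjointUniq_hom_app_counit adj (adj₀.ofNatIsoRight i) M,
    ofNatIsoRight_counit_app]
  have h1 : IsIso ((adj.leftAdjointUniq (adj₀.ofNatIsoRight i)).hom.app (R.obj M)) := inferInstance
  have h2 : IsIso (L₀.map (i.inv.app M)) := inferInstance
  exact mono_comp' (@IsIso.mono_of_iso _ _ _ _ _ h1) (mono_comp' (@IsIso.mono_of_iso _ _ _ _ _ h2) (h M))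

end Transfer

section Sch

/-- restriction along an isomorphism is an equivalence. -/
noncomputable def resEquiv {U V : Scheme.{u}} (e : U ≅ V) : V.Modules ≌ U.Modules :=
  CategoryTheory.Equivalence.mk (Scheme.Modules.restrictFunctor e.hom) (Scheme.Modules.restrictFunctor e.inv)
    ((Scheme.Modules.restrictFunctorId).symm ≪≫
      Scheme.Modules.restrictFunctorCongr (e.inv_hom_id).symm ≪≫
      Scheme.Modules.restrictFunctorComp e.inv e.hom)
    ((Scheme.Modules.restrictFunctorComp e.hom e.inv).symm ≪≫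
      Scheme.Modules.restrictFunctorCongr e.hom_inv_id ≪≫ Scheme.Modules.restrictFunctorId)

variable {U X : Scheme.{u}} (j : U ⟶ X) [IsOpenImmersion j]

/-- the concrete left adjoint of restriction along `j`. -/
noncomputable def L₀ : U.Modules ⥤ X.Modules :=
  Scheme.Modules.restrictFunctor j.isoOpensRange.inv ⋙ QCQS.ezS j.opensRange

noncomputable def adj₀ : L₀ j ⊣ (Scheme.Modules.restrictFunctor j.opensRange.ι ⋙
    Scheme.Modules.restrictFunctor j.isoOpensRange.hom) :=
  (resEquiv j.isoOpensRange).symm.toAdjunction.comp (QCQS.ezSAdj j.opensRange)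

noncomputable def i₀ : (Scheme.Modules.restrictFunctor j.opensRange.ι ⋙
    Scheme.Modules.restrictFunctor j.isoOpensRange.hom) ≅ Scheme.Modules.restrictFunctor j :=
  (Scheme.Modules.restrictFunctorComp j.isoOpensRange.hom j.opensRange.ι).symm ≪≫
    Scheme.Modules.restrictFunctorCongr j.isoOpensRange_hom_ι

lemma mono_adj₀_counit (M : X.Modules) : Mono ((adj₀ j).counit.app M) := by
  unfold adj₀
  rw [Adjunction.comp_counit_app]
  haveI := QCQS.mono_ezSAdj_counit_app j.opensRange M
  haveI : IsIso ((resEquiv j.isoOpensRange).symm.toAdjunction.counit.app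
      ((Scheme.Modules.restrictFunctor j.opensRange.ι).obj M)) := by
    rw [Equivalence.toAdjunction_counit]
    infer_instance
  have h5 : IsIso ((QCQS.ezS j.opensRange).map
      ((resEquiv j.isoOpensRange).symm.toAdjunction.counit.app
        ((Scheme.Modules.restrictFunctor j.opensRange.ι).obj M))) := inferInstance
  exact mono_comp' (@IsIso.mono_of_iso _ _ _ _ _ h5) (QCQS.mono_ezSAdj_counit_app j.opensRange M)

lemma mono_counit (M : X.Modules) : Mono ((CxOX.extZeroAdj j).counit.app M) :=
  mono_counit_of_iso (CxOX.extZeroAdj j) (adj₀ j) (i₀ j) (mono_adj₀_counit j) M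

lemma preservesFiniteLimits_extZero : PreservesFiniteLimits (CxOX.extZero j) := by
  haveI : PreservesLimitsOfSize.{0, 0} (Scheme.Modules.restrictFunctor j.isoOpensRange.inv) :=
    (CxOX.extZeroAdj j.isoOpensRange.inv).rightAdjoint_preservesLimits
  have h1 : PreservesFiniteLimits (Scheme.Modules.restrictFunctor j.isoOpensRange.inv) :=
    PreservesLimitsOfSize.preservesFiniteLimits.{0, 0} _
  have h2 := Baer.preservesFiniteLimits_ezS j.opensRange
  haveI : PreservesFiniteLimits (L₀ j) := @comp_preservesFiniteLimits _ _ _ _ _ _ _ _ h1 h2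
  exact preservesFiniteLimits_of_natIso (leftIso (CxOX.extZeroAdj j) (adj₀ j) (i₀ j)).symm

lemma isIso_unit : IsIso (CxOX.extZeroAdj j).unit := by
  let t : Adjunction.Triple (CxOX.extZero j) (Scheme.Modules.restrictFunctor j)
      (Scheme.Modules.pushforward j) :=
    ⟨CxOX.extZeroAdj j, Scheme.Modules.restrictAdjunction j⟩
  exact t.isIso_unit_iff_isIso_counit.2 inferInstance

end Sch

section Main

variable {U X : Scheme.{u}} (j : U ⟶ X) [IsOpenImmersion j]

/-- the counit at a subobject of `j_! K` is an isomorphism. -/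
lemma isIso_counit_of_mono (K : U.Modules) {S : X.Modules} (m : S ⟶ (CxOX.extZero j).obj K)
    [Mono m] : IsIso ((CxOX.extZeroAdj j).counit.app S) := by
  haveI := preservesFiniteLimits_extZero j
  obtain ⟨l, hl⟩ := Baer.isSplitEpi_counit_of_mono (CxOX.extZeroAdj j) (mono_counit j) K m
  haveI := mono_counit j S
  haveI : IsSplitEpi ((CxOX.extZeroAdj j).counit.app S) := ⟨⟨l, hl⟩⟩
  exact isIso_of_mono_of_isSplitEpi _

/-- **S11158**: `j_! O_U` is a Noetherian object. -/
theorem s11158 {U X : Scheme.{u}} [IsLocallyNoetherian X] [IsAffine U] (j : U ⟶ X)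
    [IsOpenImmersion j] (c : ℕ →o Subobject (CxOX.extZeroUnit j)) :
    ∃ n : ℕ, ∀ m : ℕ, n ≤ m → c n = c m := by
  haveI : IsLocallyNoetherian U := isLocallyNoetherian_of_isOpenImmersion j
  haveI : IsNoetherian U := {}
  let adj := CxOX.extZeroAdj j
  let R := Scheme.Modules.restrictFunctor j
  let K := Coh.structureModule U
  haveI : PreservesLimitsOfSize.{0, 0} R := adj.rightAdjoint_preservesLimits
  haveI : PreservesFiniteLimits R := PreservesLimitsOfSize.preservesFiniteLimits.{0, 0} _
  haveI := isIso_unit j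
  let ιE : R.obj (CxOX.extZeroUnit j) ⟶ K := inv (adj.unit.app K)
  haveI : Mono ιE := IsIso.mono_of_iso _
  let c' : ℕ →o Subobject (R.obj (CxOX.extZeroUnit j)) :=
    ⟨fun n => Subobject.mk (R.map (c n).arrow), fun n m h =>
      Subobject.mk_le_mk_of_comm (R.map (Subobject.ofLE _ _ (c.monotone h)))
        (by rw [← R.map_comp, Subobject.ofLE_arrow])⟩
  obtain ⟨n, hn⟩ := NoethObj.chain_stab ιE c'
  refine ⟨n, fun m h => ?_⟩
  let κ := Subobject.ofLE (c n) (c m) (c.monotone h)
  have hRκ : IsIso (R.map κ) := by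
    have h1 : Subobject.mk (R.map (c n).arrow) = Subobject.mk (R.map (c m).arrow) := hn m h
    let i := Subobject.isoOfMkEqMk _ _ h1
    have h2 : i.hom ≫ R.map (c m).arrow = R.map (c n).arrow := Subobject.ofMkLEMk_comp h1.le
    have h3 : R.map κ = i.hom := by
      rw [← cancel_mono (R.map (c m).arrow), h2, ← R.map_comp, Subobject.ofLE_arrow]
    rw [h3]
    infer_instance
  haveI := isIso_counit_of_mono j K (c n).arrow
  haveI := isIso_counit_of_mono j K (c m).arrow
  have hκ : IsIso κ := by
    have h4 : adj.counit.app ((c n : Subobject _) : X.Modules) ≫ κ =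
        (CxOX.extZero j).map (R.map κ) ≫ adj.counit.app ((c m : Subobject _) : X.Modules) :=
      (adj.counit.naturality κ).symm
    have h5 : κ = inv (adj.counit.app ((c n : Subobject _) : X.Modules)) ≫
        (CxOX.extZero j).map (R.map κ) ≫ adj.counit.app ((c m : Subobject _) : X.Modules) := by
      rw [IsIso.eq_inv_comp]
      exact h4
    rw [h5]
    infer_instance
  refine le_antisymm (c.monotone h) (Subobject.le_of_comm (inv κ) ?_)
  rw [IsIso.inv_comp_eq]
  exact (Subobject.ofLE_arrow _).symm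

end Main

end Groth.Agent.LD.ExtZeroGen
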