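import Mathlib

/-!
# Morphisms from a Noetherian object to a coproduct factor through a finite subcoproduct

Abstract form, for an abelian category with a jointly faithful family of exact,
coproduct-preserving functors to module categories ("points").
-/

set_option autoImplicit false
universe w w' v u u'
open CategoryTheory CategoryTheory.Limits

namespace Groth.Agent.LD.SigmaFactor

noncomputable section

open Classical

variable {𝒜 : Type u} [Category.{v} 𝒜] [Abelian 𝒜] {ι : Type w} (I : ι → 𝒜) [HasCoproduct I]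

/-- the endomorphism of `∐ I` killing the components in `J`. -/
def q (J : Finset ι) : ∐ I ⟶ ∐ I :=
  Sigma.desc (fun j => if j ∈ J then 0 else Sigma.ι I j)

lemma ι_q (J : Finset ι) (j : ι) :
    Sigma.ι I j ≫ q I J = if j ∈ J then 0 else Sigma.ι I j := by
  unfold q
  rw [Sigma.ι_desc]

lemma q_comp_q {J J' : Finset ι} (h : J ⊆ J') : q I J ≫ q I J' = q I J' := by
  apply Sigma.hom_ext
  intro j
  rw [← Category.assoc, ι_q]
  by_cases hj : j ∈ J
  · rw [if_pos hj, zero_comp, ι_q, if_pos (h hj)]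
  · rw [if_neg hj]

section Point

variable {R : Type u'} [Ring R] (Φ : 𝒜 ⥤ ModuleCat.{w'} R) [Φ.PreservesZeroMorphisms]

lemma map_q_of_subset {J J' : Finset ι} (h : J ⊆ J') (y : Φ.obj (∐ I))
    (hy : (Φ.map (q I J)).hom y = 0) : (Φ.map (q I J')).hom y = 0 := by
  have h1 : Φ.map (q I J') = Φ.map (q I J) ≫ Φ.map (q I J') := by
    rw [← Φ.map_comp, q_comp_q I h]
  rw [h1, ModuleCat.hom_comp, LinearMap.comp_apply, hy, map_zero]

lemma exists_finset_map_q_eq_zero [PreservesColimit (Discrete.functor I) Φ] (y : Φ.obj (∐ I)) :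
    ∃ J : Finset ι, (Φ.map (q I J)).hom y = 0 := by
  let N : Submodule R (Φ.obj (∐ I)) := ⨆ j, LinearMap.range (Φ.map (Sigma.ι I j)).hom
  have hN : N = ⊤ := by
    have hc : IsColimit (Φ.mapCocone (colimit.cocone (Discrete.functor I))) :=
      isColimitOfPreserves Φ (colimit.isColimit _)
    let π : Φ.obj (∐ I) ⟶ ModuleCat.of R (Φ.obj (∐ I) ⧸ N) := ModuleCat.ofHom N.mkQ
    have hπ : π = 0 := by
      apply hc.hom_ext
      rintro ⟨j⟩
      ext z
      show N.mkQ ((Φ.map (Sigma.ι I j)).hom z) = 0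
      rw [Submodule.mkQ_apply, Submodule.Quotient.mk_eq_zero]
      exact Submodule.mem_iSup_of_mem j ⟨z, rfl⟩
    rw [eq_top_iff]
    intro z _
    have h1 : N.mkQ z = 0 := congrArg (fun f => f.hom z) hπ
    rwa [Submodule.mkQ_apply, Submodule.Quotient.mk_eq_zero] at h1
  have hy : y ∈ N := hN ▸ Submodule.mem_top
  refine Submodule.iSup_induction (fun j => LinearMap.range (Φ.map (Sigma.ι I j)).hom)
    (motive := fun y => ∃ J : Finset ι, (Φ.map (q I J)).hom y = 0) hy ?_ ?_ ?_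
  · rintro j _ ⟨z, rfl⟩
    refine ⟨{j}, ?_⟩
    have h1 : Φ.map (Sigma.ι I j) ≫ Φ.map (q I {j}) = 0 := by
      rw [← Φ.map_comp, ι_q, if_pos (Finset.mem_singleton_self j), Φ.map_zero]
    exact congrArg (fun f => f.hom z) h1
  · exact ⟨∅, map_zero _⟩
  · rintro y₁ y₂ ⟨J₁, h₁⟩ ⟨J₂, h₂⟩
    refine ⟨J₁ ∪ J₂, ?_⟩
    rw [map_add, map_q_of_subset I Φ Finset.subset_union_left y₁ h₁,
      map_q_of_subset I Φ Finset.subset_union_right y₂ h₂, add_zero]

end Point

/-- **factorisation through a finite subcoproduct** (in the form `φ ≫ q J = 0`). -/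
theorem exists_comp_q_eq_zero {P : Type*} {R : P → Type u'} [∀ x, Ring (R x)]
    (Φ : ∀ x, 𝒜 ⥤ ModuleCat.{w'} (R x)) [∀ x, (Φ x).PreservesZeroMorphisms]
    [∀ x, PreservesFiniteLimits (Φ x)] [∀ x, PreservesColimit (Discrete.functor I) (Φ x)]
    (hfaith : ∀ {A B : 𝒜} (χ : A ⟶ B), (∀ x, (Φ x).map χ = 0) → χ = 0)
    {S : 𝒜} [WellFoundedGT (Subobject S)] (φ : S ⟶ ∐ I) :
    ∃ J : Finset ι, φ ≫ q I J = 0 := by
  let K : Finset ι → Subobject S := fun J => Subobject.mk (kernel.ι (φ ≫ q I J))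
  have hmono : ∀ {J J' : Finset ι}, J ⊆ J' → K J ≤ K J' := by
    intro J J' h
    have h1 : kernel.ι (φ ≫ q I J) ≫ φ ≫ q I J' = 0 := by
      rw [← q_comp_q I h, ← Category.assoc φ, ← Category.assoc, kernel.condition, zero_comp]
    exact Subobject.mk_le_mk_of_comm (kernel.lift _ _ h1) (kernel.lift_ι _ _ _)
  obtain ⟨_, ⟨J₀, rfl⟩, hmax⟩ := wellFounded_gt.has_min (Set.range K) ⟨K ∅, ⟨∅, rfl⟩⟩
  refine ⟨J₀, hfaith _ (fun x => ?_)⟩
  ext s
  obtain ⟨J₁, hJ₁⟩ := exists_finset_map_q_eq_zero I (Φ x) (((Φ x).map φ).hom s)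
  have h1 : ((Φ x).map (φ ≫ q I (J₀ ∪ J₁))).hom s = 0 := by
    rw [(Φ x).map_comp, ModuleCat.hom_comp, LinearMap.comp_apply]
    exact map_q_of_subset I (Φ x) Finset.subset_union_right _ hJ₁
  have hex : ((ShortComplex.mk (kernel.ι (φ ≫ q I (J₀ ∪ J₁))) (φ ≫ q I (J₀ ∪ J₁))
      (kernel.condition _)).map (Φ x)).Exact :=
    (ShortComplex.exact_of_f_is_kernel _ (kernelIsKernel _)).map_of_mono_of_preservesKernel
      (Φ x) (inferInstanceAs (Mono (kernel.ι _))) inferInstance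
  obtain ⟨k, hk⟩ := (ShortComplex.moduleCat_exact_iff _).1 hex s h1
  have hKJ : K (J₀ ∪ J₁) ≤ K J₀ := by
    have h2 : K J₀ ≤ K (J₀ ∪ J₁) := hmono Finset.subset_union_left
    by_contra hcon
    exact hmax _ ⟨_, rfl⟩ (lt_of_le_of_ne h2 (fun h => hcon h.ge))
  have hu : Subobject.ofMkLEMk _ _ hKJ ≫ kernel.ι (φ ≫ q I J₀) = kernel.ι (φ ≫ q I (J₀ ∪ J₁)) :=
    Subobject.ofMkLEMk_comp hKJ
  have h3 : (Φ x).map (kernel.ι (φ ≫ q I (J₀ ∪ J₁))) ≫ (Φ x).map (φ ≫ q I J₀) = 0 := by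
    rw [← (Φ x).map_comp, ← hu, Category.assoc, kernel.condition, comp_zero, (Φ x).map_zero]
  have h4 : ((Φ x).map (kernel.ι (φ ≫ q I (J₀ ∪ J₁)))).hom k = s := hk
  rw [← h4]
  exact congrArg (fun f => f.hom k) h3

/-- extension of a morphism to a coproduct of injectives which factors through a finite
subcoproduct. -/
theorem exists_extension_of_comp_q_eq_zero [∀ j, Injective (I j)] {S G : 𝒜} (m : S ⟶ G) [Mono m]
    (φ : S ⟶ ∐ I) (J : Finset ι) (h : φ ≫ q I J = 0) : ∃ ψ : G ⟶ ∐ I, m ≫ ψ = φ := by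
  let IJ : {x // x ∈ J} → 𝒜 := fun j => I j.1
  haveI : HasFiniteBiproducts 𝒜 := HasFiniteBiproducts.of_hasFiniteCoproducts
  haveI : HasBiproductsOfShape {x // x ∈ J} 𝒜 := hasBiproductsOfShape_finite _
  haveI : HasBiproduct IJ := HasBiproductsOfShape.has_biproduct IJ
  haveI : ∀ j, Injective (IJ j) := fun j => inferInstanceAs (Injective (I j.1))
  let r : ∐ I ⟶ ⨁ IJ := Sigma.desc (fun j => if hj : j ∈ J then biproduct.ι IJ ⟨j, hj⟩ else 0)
  let incl : ⨁ IJ ⟶ ∐ I := biproduct.desc (fun j : {x // x ∈ J} => Sigma.ι I j.1)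
  have hri : r ≫ incl + q I J = 𝟙 _ := by
    apply Sigma.hom_ext
    intro j
    rw [Preadditive.comp_add, ← Category.assoc, Sigma.ι_desc, ι_q, Category.comp_id]
    by_cases hj : j ∈ J
    · rw [dif_pos hj, if_pos hj, add_zero, biproduct.ι_desc]
    · rw [dif_neg hj, if_neg hj, zero_comp, zero_add]
  have hφ : φ = (φ ≫ r) ≫ incl := by
    have h1 : φ ≫ (r ≫ incl + q I J) = φ := by rw [hri, Category.comp_id]
    rw [Preadditive.comp_add, h, add_zero] at h1
    rw [Category.assoc, h1]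
  refine ⟨Injective.factorThru (φ ≫ r) m ≫ incl, ?_⟩
  rw [← Category.assoc, Injective.comp_factorThru, ← hφ]

end

end Groth.Agent.LD.SigmaFactor
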