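import Mathlib
import Groth.Agent.Lib.Lead.Inj.SigmaFactor
import Groth.Agent.Lib.Lead.Inj.ExtZeroGen
import Groth.Agent.Lib.Lead.FF.Faithful
import Groth.Agent.Lib.Lead.Baer.Family

/-!
# Direct sums of injective `O_X`-modules on a locally Noetherian scheme are injective (S11157)
-/

set_option autoImplicit false
universe u
open CategoryTheory CategoryTheory.Limits AlgebraicGeometry TopologicalSpace Opposite

namespace Groth.Agent.LD.SigmaInj

open Groth.Agent.LD

variable {X : Scheme.{u}}

/-- the generators `j_! O_W`, `W` affine open. -/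
noncomputable abbrev gen (W : X.affineOpens) : X.Modules := CxOX.extZeroUnit W.1.ι

/-- the generators detect isomorphisms. -/
lemma isIso_of_lifts {A B : X.Modules} (p : A ⟶ B) [Mono p]
    (hp : ∀ (W : X.affineOpens) (f : gen W ⟶ B), ∃ a : gen W ⟶ A, a ≫ p = f) : IsIso p := by
  haveI : Epi p := by
    apply QC.epi_of_local_lift
    intro W₀ t x hxW₀
    obtain ⟨W, hW, hxW, hWle⟩ := exists_isAffineOpen_mem_and_subset (x := x) (U := W₀) hxW₀
    have hle : W.ι ''ᵁ ⊤ ≤ W₀ := by
      rw [Scheme.Opens.ι_image_top]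
      exact hWle
    let adj := CxOX.extZeroAdj W.ι
    let t' : Γ(B.restrict W.ι, ⊤) := B.presheaf.map (homOfLE hle).op t
    let f₀ := QC.homOfSection (B.restrict W.ι) t'
    let f := (adj.homEquiv _ _).symm f₀
    obtain ⟨a, ha⟩ := hp ⟨W, hW⟩ f
    let a₀ := adj.homEquiv _ _ a
    have h0 : a₀ ≫ (Scheme.Modules.restrictFunctor W.ι).map p = f₀ := by
      rw [← Adjunction.homEquiv_naturality_right, ha]
      exact Equiv.apply_symm_apply _ _
    refine ⟨W.ι ''ᵁ ⊤, hle, ?_, QC.sectionOfHom a₀, ?_⟩
    · rw [Scheme.Opens.ι_image_top]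
      exact hxW
    · have h2 := congrArg QC.sectionOfHom h0
      rw [QC.sectionOfHom_homOfSection] at h2
      exact h2
  exact isIso_of_mono_of_epi p

/-- **S11157**: direct sums of injectives are injective on a locally Noetherian scheme. -/
theorem s11157 [IsLocallyNoetherian X] {ι : Type u} (I : ι → X.Modules)
    (hI : ∀ j, Injective (I j)) : Injective (∐ I) := by
  haveI : IsGrothendieckAbelian.{u} X.Modules :=
    Groth.Agent.H1.sheafOfModules_isGrothendieckAbelian
      (Opens.grothendieckTopology X) X.ringCatSheaf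
  haveI : Nonempty X.affineOpens := ⟨⟨⊥, isAffineOpen_bot X⟩⟩
  refine Baer.injective_of_extends.{u} (fun W : X.affineOpens => gen W) ?_ (∐ I) ?_
  · intro A B p _ hp
    exact isIso_of_lifts p hp
  · intro W S m hm φ
    haveI : IsAffine W.1.toScheme := W.2
    haveI : WellFoundedGT (Subobject (gen W)) :=
      wellFoundedGT_iff_monotone_chain_condition.2 (fun c => ExtZeroGen.s11158 W.1.ι c)
    haveI : WellFoundedGT (Subobject S) :=
      StrictMono.wellFoundedGT (f := (Subobject.map m).obj)
        ((Subobject.map m).monotone.strictMono_of_injective (Subobject.map_obj_injective m))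
    haveI : ∀ x : X, PreservesColimitsOfSize.{u, u} (DerSch.stalkFunctor X x) := fun x =>
      (Groth.Agent.H4.SPt4.stalkSkyAdj x).leftAdjoint_preservesColimits
    haveI : ∀ x : X, (DerSch.stalkFunctor X x).PreservesZeroMorphisms := fun x =>
      Functor.preservesZeroMorphisms_of_isLeftAdjoint _
    obtain ⟨J, hJ⟩ := SigmaFactor.exists_comp_q_eq_zero I (fun x : X => DerSch.stalkFunctor X x)
      (fun χ h => FF.eq_zero_of_stalk χ h) φ
    exact SigmaFactor.exists_extension_of_comp_q_eq_zero I m φ J hJ

end Groth.Agent.LD.SigmaInj
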