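import Groth.Agent.Lib.Lead.RSp.SkyInj

/-!
# `E~` is a skyscraper (hence injective) for a `p`-local, `p`-power-torsion injective module `E`

For a prime `p` of a Noetherian ring `R` and an injective `R`-module `E` on which the elements
outside `p` act bijectively and the elements of `p` act locally nilpotently (e.g. `E = E(R/p)`),
the module `E~` on `Spec R` is the skyscraper module at `p` with value `E`; it is an injective
object of the category of all `O`-modules.
-/

set_option autoImplicit false
universe u
open CategoryTheory CategoryTheory.Limits AlgebraicGeometry TopologicalSpace Opposite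
open Groth.Agent.LD.RSp.Sky

namespace Groth.Agent.LD.TildeSky

/-- the identity is a localization when the multiplicative set acts bijectively. -/
lemma isLocalizedModule_id {R : Type u} [CommRing R] (S : Submonoid R) (E : Type u)
    [AddCommGroup E] [Module R E] (ha : ∀ f ∈ S, Function.Bijective fun e : E => f • e) :
    IsLocalizedModule S (LinearMap.id : E →ₗ[R] E) where
  map_units s := by
    rw [Module.End.isUnit_iff]
    refine ⟨fun a b h => (ha s.1 s.2).1 (by simpa using h), fun b => ?_⟩
    obtain ⟨a, h⟩ := (ha s.1 s.2).2 b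
    exact ⟨a, by simpa using h⟩
  surj y := ⟨(y, 1), by simp⟩
  exists_of_eq h := ⟨1, by simpa using h⟩

section Sky

variable (R : CommRingCat.{u}) (p : Spec R) (E : Type u) [AddCommGroup E] [Module R E]
  [Module (Ox (Spec R).sheaf p) E]

/-- the skyscraper module at `p` as a module on the scheme `Spec R`. -/
noncomputable abbrev NN : (Spec R).Modules := sky (Spec R).sheaf p E

lemma germ_inv (U : (Spec R).Opens) (hx : p ∈ U) (r : R) :
    gR (Spec R).sheaf p U hx ((Spec R).presheaf.map U.leTop.op ((Scheme.ΓSpecIso R).inv r)) =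
      gR (Spec R).sheaf p ⊤ trivial ((Scheme.ΓSpecIso R).inv r) :=
  TopCat.Presheaf.germ_res_apply (Spec R).presheaf U.leTop p hx _

lemma ext_sec (U : (Spec R).Opens) (t t' : (modulesSpecToSheaf.obj (NN R p E)).obj.obj (op U))
    (h : ∀ hx : p ∈ U, toE (Spec R).sheaf p E t hx = toE (Spec R).sheaf p E t' hx) : t = t' :=
  toE_ext (Spec R).sheaf p E h

variable (htow : ∀ (r : R) (e : E),
  gR (Spec R).sheaf p ⊤ trivial ((Scheme.ΓSpecIso R).inv r) • e = r • e)

include htow in
lemma smul_eval (U : (Spec R).Opens) (r : R)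
    (s : (modulesSpecToSheaf.obj (NN R p E)).obj.obj (op U)) (hx : p ∈ U) :
    toE (Spec R).sheaf p E (r • s) hx = r • toE (Spec R).sheaf p E s hx := by
  show gR (Spec R).sheaf p U hx ((Spec R).presheaf.map U.leTop.op ((Scheme.ΓSpecIso R).inv r)) •
    toE (Spec R).sheaf p E s hx = _
  rw [germ_inv, htow]

include htow in
/-- the skyscraper module is localizing. -/
lemma isLocalizing_sky
    (ha : ∀ f : R, f ∉ p.asIdeal → Function.Bijective fun e : E => f • e)
    (hb : ∀ f : R, f ∈ p.asIdeal → ∀ e : E, ∃ n : ℕ, f ^ n • e = 0) :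
    IsLocalizing (modulesSpecToSheaf.obj (NN R p E)) := by
  intro f
  have hpow : ∀ (k : ℕ), p ∈ PrimeSpectrum.basicOpen f → f ^ k ∉ p.asIdeal := by
    intro k hp hk
    exact hp (p.isPrime.mem_of_pow_mem k hk)
  have hres : ∀ (s : (modulesSpecToSheaf.obj (NN R p E)).obj.obj (op ⊤))
      (hx : p ∈ PrimeSpectrum.basicOpen f),
      toE (Spec R).sheaf p E (((modulesSpecToSheaf.obj (NN R p E)).obj.map
        (PrimeSpectrum.basicOpen f).leTop.op).hom s) hx = toE (Spec R).sheaf p E s trivial :=
    fun s hx => rfl
  refine ⟨?_, ?_, ?_⟩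
  · -- the powers of `f` act bijectively on the sections over `D(f)`
    intro c
    obtain ⟨k, hk⟩ := c.2
    have hc : p ∈ PrimeSpectrum.basicOpen f → (c : R) ∉ p.asIdeal := by
      rw [← hk]; exact hpow k
    rw [Module.End.isUnit_iff]
    constructor
    · intro t t' h
      refine ext_sec R p E _ _ _ (fun hx => ?_)
      have h1 := congrArg (fun z => toE (Spec R).sheaf p E z hx) h
      simp only [Module.algebraMap_end_apply] at h1
      rw [smul_eval R p E htow, smul_eval R p E htow] at h1
      exact (ha _ (hc hx)).1 h1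
    · intro t
      refine ⟨mkS (Spec R).sheaf p E (U := PrimeSpectrum.basicOpen f)
        (fun hx => ((ha _ (hc hx)).2 (toE (Spec R).sheaf p E t hx)).choose), ?_⟩
      refine ext_sec R p E _ _ _ (fun hx => ?_)
      rw [Module.algebraMap_end_apply, smul_eval R p E htow, toE_mkS]
      exact ((ha _ (hc hx)).2 (toE (Spec R).sheaf p E t hx)).choose_spec
  · -- every section over `D(f)` comes from a global section
    intro t
    classical
    refine ⟨(mkS (Spec R).sheaf p E (U := ⊤) (fun _ =>
      if h : p ∈ PrimeSpectrum.basicOpen f then toE (Spec R).sheaf p E t h else 0), 1), ?_⟩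
    rw [one_smul]
    refine ext_sec R p E _ _ _ (fun hx => ?_)
    rw [hres, toE_mkS]
    exact (dif_pos hx).symm
  · -- sections with the same restriction agree after multiplication by a power of `f`
    intro s₁ s₂ h
    by_cases hp : p ∈ PrimeSpectrum.basicOpen f
    · refine ⟨1, ?_⟩
      rw [one_smul, one_smul]
      refine ext_sec R p E _ _ _ (fun hx => ?_)
      have h1 := congrArg (fun z => toE (Spec R).sheaf p E z hp) h
      simp only [hres] at h1
      exact h1
    · have hfp : f ∈ p.asIdeal := not_not.mp hp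
      obtain ⟨n, hn⟩ := hb f hfp
        (toE (Spec R).sheaf p E s₁ trivial - toE (Spec R).sheaf p E s₂ trivial)
      refine ⟨⟨f ^ n, n, rfl⟩, ?_⟩
      refine ext_sec R p E _ _ _ (fun hx => ?_)
      rw [Submonoid.smul_def, Submonoid.smul_def, smul_eval R p E htow, smul_eval R p E htow]
      have h2 : f ^ n • toE (Spec R).sheaf p E s₁ hx - f ^ n • toE (Spec R).sheaf p E s₂ hx = 0 := by
        rw [← smul_sub]; exact hn
      exact sub_eq_zero.mp h2

include htow in
/-- `E~` is the skyscraper module. -/
theorem nonempty_tilde_iso_sky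
    (ha : ∀ f : R, f ∉ p.asIdeal → Function.Bijective fun e : E => f • e)
    (hb : ∀ f : R, f ∈ p.asIdeal → ∀ e : E, ∃ n : ℕ, f ^ n • e = 0) :
    Nonempty (tilde (ModuleCat.of R E) ≅ NN R p E) := by
  have hiso : IsIso (Scheme.Modules.fromTildeΓ (R := R) (NN R p E)) :=
    (isIso_fromTildeΓ_iff_isLocalizing (R := R) (NN R p E)).mpr
      (isLocalizing_sky R p E htow ha hb)
  let e : E ≃ₗ[R] ((modulesSpecToSheaf.obj (NN R p E)).presheaf.obj (op ⊤)) :=
    { toFun := fun x => mkS (Spec R).sheaf p E (U := ⊤) (fun _ => x)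
      map_add' := fun x y => rfl
      map_smul' := fun r x => by
        refine ext_sec R p E _ _ _ (fun hx => ?_)
        rw [RingHom.id_apply, smul_eval R p E htow]
        rfl
      invFun := fun s => toE (Spec R).sheaf p E s trivial
      left_inv := fun x => rfl
      right_inv := fun s => ext_sec R p E _ _ _ (fun hx => rfl) }
  exact ⟨(tilde.functor R).mapIso e.toModuleIso ≪≫
    @asIso _ _ _ _ (Scheme.Modules.fromTildeΓ (R := R) (NN R p E)) hiso⟩

end Sky

/-- **`E~` is injective** for an injective module `E` over a Noetherian ring which is local and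
power-torsion at a prime `p`. -/
theorem injective_tilde (R : CommRingCat.{u}) [IsNoetherianRing R] (p : Spec R) (E : Type u)
    [AddCommGroup E] [Module R E] [Module.Injective R E]
    (ha : ∀ f : R, f ∉ p.asIdeal → Function.Bijective fun e : E => f • e)
    (hb : ∀ f : R, f ∈ p.asIdeal → ∀ e : E, ∃ n : ℕ, f ^ n • e = 0) :
    Injective (tilde (ModuleCat.of R E)) := by
  letI alg : Algebra R (Ox (Spec R).sheaf p) := StructureSheaf.stalkAlgebra (↑R) p
  haveI loc : IsLocalization.AtPrime (Ox (Spec R).sheaf p) p.asIdeal :=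
    StructureSheaf.IsLocalization.to_stalk R p
  haveI lm : IsLocalizedModule p.asIdeal.primeCompl (LinearMap.id : E →ₗ[R] E) :=
    isLocalizedModule_id p.asIdeal.primeCompl E (fun f hf => ha f hf)
  letI mod : Module (Ox (Spec R).sheaf p) E :=
    IsLocalizedModule.module p.asIdeal.primeCompl (LinearMap.id : E →ₗ[R] E)
  haveI tow : IsScalarTower R (Ox (Spec R).sheaf p) E :=
    IsLocalizedModule.isScalarTower_module p.asIdeal.primeCompl (LinearMap.id : E →ₗ[R] E)
  haveI : Module.Injective (Ox (Spec R).sheaf p) E :=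
    Module.injective_of_isLocalizedModule p.asIdeal.primeCompl (LinearMap.id : E →ₗ[R] E)
  have htow : ∀ (r : R) (e : E),
      gR (Spec R).sheaf p ⊤ trivial ((Scheme.ΓSpecIso R).inv r) • e = r • e :=
    fun r e => algebraMap_smul (Ox (Spec R).sheaf p) r e
  obtain ⟨i⟩ := nonempty_tilde_iso_sky R p E htow ha hb
  haveI : Injective (NN R p E) := injective_sky (Spec R).sheaf p E
  exact Injective.of_iso i.symm inferInstance

end Groth.Agent.LD.TildeSky
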