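import Groth.Agent.Lib.Lead.Inj.StalkInj
import Groth.Agent.Lib.Lead.Inj.TildeSky
import Groth.Agent.Lib.Lead.Inj.SigmaInj
import Groth.Agent.Lib.Helper6.InjHull
import Groth.Agent.S0306
import Groth.Agent.S0307
import Groth.Agent.S0311
import Groth.Agent.Lib.Lead.FF.Descent
import Groth.Agent.Lib.Helper9.Misc.FLH1
import Groth.Agent.Lib.Lead.QC.Push

/-!
# Injective quasi-coherent modules on locally Noetherian schemes (S7768, S11154)

* `hull_smul_injective`, `hull_smul_surjective`, `hull_torsion`: an injective hull of `κ(p)` over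
  a Noetherian ring is `p`-local and `p`-power torsion.
* `injective_tilde_of_injective`: `M~` is an injective `O`-module when `M` is an injective module
  over a Noetherian ring (Matlis decomposition + skyscrapers + direct sums of injectives).
* `injective_sections_of_stalks`, `injective_of_stalks`: a quasi-coherent module with injective
  stalks is injective.
* `s11154`: the direct image of `E(κ(x))~` along `Spec O_{X,x} ⟶ X` is injective and
  quasi-coherent.
-/

set_option autoImplicit false
universe u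
open CategoryTheory CategoryTheory.Limits AlgebraicGeometry TopologicalSpace Opposite

namespace Groth.Agent.LD.QcInj

section Hull

variable {R : Type u} [CommRing R] (p : Ideal R) [p.IsPrime] {E : Type u} [AddCommGroup E]
  [Module R E] (g : p.ResidueField →ₗ[R] E) (hg : InjHull.IsInjectiveHull g)

include hg

lemma hull_ess (x : E) (hx : x ≠ 0) :
    ∃ (r : R) (k : p.ResidueField), r • x ≠ 0 ∧ g k = r • x := by
  obtain ⟨r, hr, k, hk⟩ := ((H6.IH.isEssentialInj_iff g).mp hg.toIsEssentialInj).2 x hx
  exact ⟨r, k, hr, hk⟩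

lemma hull_smul_injective (f : R) (hf : f ∉ p) : Function.Injective fun e : E => f • e := by
  intro e e' h
  have h' : f • e = f • e' := h
  by_contra hne
  have hx : e - e' ≠ 0 := sub_ne_zero.mpr hne
  obtain ⟨r, k, hr, hk⟩ := hull_ess p g hg _ hx
  have h0 : f • (e - e') = 0 := by rw [smul_sub]; exact sub_eq_zero.mpr h'
  have h1 : g (f • k) = 0 := by rw [map_smul, hk, smul_comm, h0, smul_zero]
  have h2 : f • k = 0 := hg.injective (h1.trans (map_zero g).symm)
  have h3 : algebraMap R p.ResidueField f ≠ 0 := by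
    rw [Ne, Ideal.algebraMap_residueField_eq_zero]; exact hf
  have h4 : k = 0 := by
    rw [Algebra.smul_def] at h2
    exact (mul_eq_zero.mp h2).resolve_left h3
  apply hr
  rw [← hk, h4, map_zero]

lemma hull_smul_surjective (f : R) (hf : f ∉ p) : Function.Surjective fun e : E => f • e := by
  haveI := hg.isInjective
  let φ : E →ₗ[R] E := f • LinearMap.id
  have hφa : ∀ y, φ y = f • y := fun y => rfl
  have hφ : Function.Injective φ := fun a b h =>
    hull_smul_injective p g hg f hf (by simpa [hφa] using h)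
  obtain ⟨ρ, hρ⟩ := Module.Injective.out (R := R) (Q := E) φ hφ LinearMap.id
  have hρ' : ∀ y, ρ (f • y) = y := fun y => by
    have := hρ y
    rwa [hφa, LinearMap.id_apply] at this
  have h3 : algebraMap R p.ResidueField f ≠ 0 := by
    rw [Ne, Ideal.algebraMap_residueField_eq_zero]; exact hf
  intro e
  refine ⟨ρ e, ?_⟩
  show f • ρ e = e
  by_contra hne
  have hx : e - f • ρ e ≠ 0 := sub_ne_zero.mpr (Ne.symm hne)
  obtain ⟨r, k, hr, hk⟩ := hull_ess p g hg _ hx
  have hρ0 : ρ (e - f • ρ e) = 0 := by rw [map_sub, hρ', sub_self]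
  have hk' : f • ((algebraMap R p.ResidueField f)⁻¹ * k) = k := by
    rw [Algebra.smul_def, ← mul_assoc, mul_inv_cancel₀ h3, one_mul]
  have h5 : ρ (g k) = g ((algebraMap R p.ResidueField f)⁻¹ * k) := by
    conv_lhs => rw [← hk', map_smul]
    exact hρ' _
  have h6 : ρ (g k) = 0 := by rw [hk, map_smul, hρ0, smul_zero]
  have h7 : (algebraMap R p.ResidueField f)⁻¹ * k = 0 :=
    hg.injective ((h5.symm.trans h6).trans (map_zero g).symm)
  apply hr
  rw [← hk, ← hk', h7, smul_zero, map_zero]

lemma hull_torsion [IsNoetherianRing R] (f : R) (hf : f ∈ p) (e : E) :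
    ∃ n : ℕ, f ^ n • e = 0 := by
  by_contra hcon
  push_neg at hcon
  haveI : IsNoetherian R (Submodule.span R {e}) :=
    isNoetherian_span_of_finite R (Set.finite_singleton e)
  let φ : Module.End R (Submodule.span R {e}) :=
    algebraMap R (Module.End R (Submodule.span R {e})) f
  obtain ⟨n₀, hn₀⟩ := (φ.eventually_disjoint_ker_pow_range_pow).exists_forall_of_atTop
  have hdis := hn₀ (n₀ + 1) (Nat.le_succ n₀)
  have hφ : ∀ (j : ℕ) (y : Submodule.span R {e}), (φ ^ j) y = f ^ j • y := by
    intro j y
    rw [← map_pow, Module.algebraMap_end_apply]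
  obtain ⟨r, k, hr, hk⟩ := hull_ess p g hg _ (hcon (n₀ + 1))
  have hfk : f • k = 0 := by
    rw [Algebra.smul_def, Ideal.algebraMap_residueField_eq_zero.mpr hf, zero_mul]
  have hfz : f • (r • f ^ (n₀ + 1) • e) = 0 := by rw [← hk, ← map_smul, hfk, map_zero]
  let e₀ : Submodule.span R {e} := ⟨e, Submodule.mem_span_singleton_self e⟩
  have hz1 : r • f ^ (n₀ + 1) • e₀ ∈ LinearMap.range (φ ^ (n₀ + 1)) :=
    ⟨r • e₀, by rw [hφ, smul_comm]⟩
  have hz2 : r • f ^ (n₀ + 1) • e₀ ∈ LinearMap.ker (φ ^ (n₀ + 1)) := by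
    rw [LinearMap.mem_ker, hφ]
    apply Subtype.ext
    show f ^ (n₀ + 1) • (r • f ^ (n₀ + 1) • e) = 0
    have h9 : f ^ (n₀ + 1) • (r • f ^ (n₀ + 1) • e) =
        f ^ n₀ • (f • (r • f ^ (n₀ + 1) • e)) := by
      rw [← mul_smul (f ^ n₀) f, ← pow_succ]
    rw [h9, hfz, smul_zero]
  have hz0 : r • f ^ (n₀ + 1) • e₀ = 0 :=
    (Submodule.mem_bot R).mp (hdis.le_bot (Submodule.mem_inf.mpr ⟨hz2, hz1⟩))
  apply hr
  exact congrArg Subtype.val hz0

end Hull

/-- **`M~` is an injective `O`-module** for an injective module `M` over a Noetherian ring. -/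
theorem injective_tilde_of_injective (R : CommRingCat.{u}) [IsNoetherianRing R] (M : Type u)
    [AddCommGroup M] [Module R M] [hM : Module.Injective R M] :
    Injective (tilde (ModuleCat.of R M)) := by
  classical
  obtain ⟨ι, F, hint, hF⟩ := Groth.Agent.S0307.result R M hM
  have h1 : ∀ i, Injective ((tilde.functor R).obj (ModuleCat.of R (F i))) := by
    intro i
    obtain ⟨hind, hinj⟩ := hF i
    obtain ⟨q, hq, g, hg⟩ := Groth.Agent.S0306.result R (F i) hind hinj
    haveI := hq
    haveI := hinj
    exact TildeSky.injective_tilde R (⟨q, hq⟩ : PrimeSpectrum R) (F i)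
      (fun f hf => ⟨hull_smul_injective q g hg f hf, hull_smul_surjective q g hg f hf⟩)
      (fun f hf e => hull_torsion q g hg f hf e)
  have h2 : Injective (∐ fun i => (tilde.functor R).obj (ModuleCat.of R (F i))) :=
    SigmaInj.s11157 _ h1
  let e : (DirectSum ι fun i => F i) ≃ₗ[R] M :=
    LinearEquiv.ofBijective (DirectSum.coeLinearMap F) hint
  let i1 : (∐ fun i => ModuleCat.of R (F i)) ≅ ModuleCat.of R M :=
    ModuleCat.coprodIsoDirectSum (fun i => ModuleCat.of R (F i)) ≪≫ e.toModuleIso
  let i2 := PreservesCoproduct.iso (tilde.functor R) (fun i => ModuleCat.of R (F i))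
  exact Injective.of_iso (i2.symm ≪≫ (tilde.functor R).mapIso i1) h2

section Sections

variable {X : Scheme.{u}}

lemma primeIdealOf_fromSpec {U : X.Opens} (hU : IsAffineOpen U) (q : PrimeSpectrum Γ(X, U)) :
    ∃ hy : hU.fromSpec q ∈ U, hU.primeIdealOf ⟨hU.fromSpec q, hy⟩ = q := by
  have hy : hU.fromSpec q ∈ U := by
    have h1 : hU.fromSpec q ∈ Set.range hU.fromSpec := Set.mem_range_self q
    rw [hU.range_fromSpec] at h1
    exact h1
  refine ⟨hy, ?_⟩
  apply hU.fromSpec.isOpenEmbedding.injective
  exact hU.fromSpec_primeIdealOf ⟨_, hy⟩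

set_option backward.defeqAttrib.useBackward true in
attribute [local instance] RingHomInvPair.of_ringEquiv in
/-- injectivity of the stalk gives injectivity of the localization of the module of sections. -/
lemma injective_localizedModule_of_stalk (F : X.Modules) [F.IsQuasicoherent] {U : X.Opens}
    (hU : IsAffineOpen U) (x : X) (hx : x ∈ U)
    (hinj : Module.Injective (X.presheaf.stalk x) (F.presheaf.stalk x))
    (q : PrimeSpectrum Γ(X, U)) (hq : hU.primeIdealOf ⟨x, hx⟩ = q) :
    Module.Injective (Localization.AtPrime q.asIdeal)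
      (LocalizedModule q.asIdeal.primeCompl Γ(F, U)) := by
  subst hq
  letI := QC.stalkΓModule F x U hx
  letI : Algebra Γ(X, U) (X.presheaf.stalk x) :=
    TopCat.Presheaf.algebra_section_stalk X.presheaf ⟨x, hx⟩
  haveI := hU.isLocalization_stalk ⟨x, hx⟩
  haveI := QC.isLocalizedModule_germ F hU x hx
  haveI : IsScalarTower Γ(X, U) (X.presheaf.stalk x) (F.presheaf.stalk x) :=
    IsScalarTower.of_algebraMap_smul fun _ _ => rfl
  refine Module.Injective.of_ringEquiv (M := F.presheaf.stalk x)
    (IsLocalization.algEquiv (hU.primeIdealOf ⟨x, hx⟩).asIdeal.primeCompl (X.presheaf.stalk x)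
      (Localization.AtPrime (hU.primeIdealOf ⟨x, hx⟩).asIdeal)).toRingEquiv
    { __ := IsLocalizedModule.linearEquiv (hU.primeIdealOf ⟨x, hx⟩).asIdeal.primeCompl
        (QC.germLinear F x U hx)
        (LocalizedModule.mkLinearMap (hU.primeIdealOf ⟨x, hx⟩).asIdeal.primeCompl Γ(F, U))
      map_smul' := ?_ }
  intro r m
  obtain ⟨r, s, rfl⟩ :=
    IsLocalization.exists_mk'_eq (hU.primeIdealOf ⟨x, hx⟩).asIdeal.primeCompl r
  apply ((Module.End.isUnit_iff _).mp (IsLocalizedModule.map_units
    (LocalizedModule.mkLinearMap (hU.primeIdealOf ⟨x, hx⟩).asIdeal.primeCompl Γ(F, U)) s)).1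
  dsimp
  simp only [← map_smul, ← smul_assoc, IsLocalization.smul_mk'_self, algebraMap_smul,
    IsLocalization.map_id_mk']

/-- a quasi-coherent module with injective stalks has injective modules of sections over affine
opens. -/
theorem injective_sections_of_stalks [IsLocallyNoetherian X] (F : X.Modules) [F.IsQuasicoherent]
    {U : X.Opens} (hU : IsAffineOpen U)
    (h : ∀ x ∈ U, Module.Injective (X.presheaf.stalk x) (F.presheaf.stalk x)) :
    Module.Injective Γ(X, U) Γ(F, U) := by
  haveI : IsNoetherianRing Γ(X, U) := IsLocallyNoetherian.component_noetherian ⟨U, hU⟩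
  apply Module.injective_of_localization_maximal
  intro P hP
  obtain ⟨hy, hq⟩ := primeIdealOf_fromSpec hU ⟨P, hP.isPrime⟩
  exact injective_localizedModule_of_stalk F hU _ hy (h _ hy) ⟨P, hP.isPrime⟩ hq

/-- sections over an affine open and global sections of the restriction to its spectrum. -/
noncomputable def sectionsEquiv (F : X.Modules) {U : X.Opens} (hU : IsAffineOpen U) :
    Γ(F, U) ≃ₗ[Γ(X, U)] Γ(F.restrict hU.fromSpec, ⊤) :=
  have hWU : hU.fromSpec ''ᵁ ⊤ ≤ U := QC.fromSpec_image_le hU ⊤
  have hUW : U ≤ hU.fromSpec ''ᵁ ⊤ := by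
    rw [Scheme.Hom.image_top_eq_opensRange, hU.opensRange_fromSpec]
  { toFun := fun m => (show Γ(F.restrict hU.fromSpec, ⊤) from F.presheaf.map (homOfLE hWU).op m)
    map_add' := fun a b => map_add (F.presheaf.map (homOfLE hWU).op).hom a b
    map_smul' := fun r m => by
      rw [RingHom.id_apply, QC.fromSpec_smul F hU ⊤ r]
      exact Scheme.Modules.map_smul F (homOfLE hWU) r m
    invFun := fun n => F.presheaf.map (homOfLE hUW).op (show Γ(F, hU.fromSpec ''ᵁ ⊤) from n)
    left_inv := fun m => by
      show F.presheaf.map (homOfLE hUW).op (F.presheaf.map (homOfLE hWU).op m) = m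
      rw [QC.res_res, QC.res_self]
    right_inv := fun n => by
      show F.presheaf.map (homOfLE hWU).op (F.presheaf.map (homOfLE hUW).op
        (show Γ(F, hU.fromSpec ''ᵁ ⊤) from n)) = _
      rw [QC.res_res, QC.res_self] }

/-- transfer of injectivity from `Spec Γ(X, U)` to the open subscheme `U`. -/
lemma injective_restrict_ι_of_fromSpec (F : X.Modules) {U : X.Opens} (hU : IsAffineOpen U)
    (h : Injective (F.restrict hU.fromSpec)) : Injective (F.restrict U.ι) := by
  haveI := h
  haveI : Injective ((F.restrict hU.fromSpec).restrict hU.isoSpec.hom) :=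
    StalkInj.injective_restrict hU.isoSpec.hom _
  have i1 : (F.restrict hU.fromSpec).restrict hU.isoSpec.hom ≅
      F.restrict (hU.isoSpec.hom ≫ hU.fromSpec) :=
    ((Scheme.Modules.restrictFunctorComp hU.isoSpec.hom hU.fromSpec).app F).symm
  have i2 : F.restrict (hU.isoSpec.hom ≫ hU.fromSpec) ≅ F.restrict U.ι :=
    (Scheme.Modules.restrictFunctorCongr hU.isoSpec_hom_fromSpec).app F
  exact Injective.of_iso (i1 ≪≫ i2) inferInstance

/-- **a quasi-coherent module with injective stalks is injective** (locally Noetherian case). -/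
theorem injective_of_stalks [IsLocallyNoetherian X] (F : X.Modules) (hF : F.IsQuasicoherent)
    (h : ∀ x : X, Module.Injective (X.presheaf.stalk x) (F.presheaf.stalk x)) : Injective F := by
  haveI := hF
  apply Baer.injective_of_locally_injective F
  intro x
  obtain ⟨U, hU, hxU, -⟩ := (Opens.isBasis_iff_nbhd.mp X.isBasis_affineOpens) (Opens.mem_top x)
  refine ⟨U, hxU, ?_⟩
  haveI : IsNoetherianRing Γ(X, U) := IsLocallyNoetherian.component_noetherian ⟨U, hU⟩
  haveI h1 : Module.Injective Γ(X, U) Γ(F, U) :=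
    injective_sections_of_stalks F hU (fun y _ => h y)
  haveI h2 : Module.Injective Γ(X, U) Γ(F.restrict hU.fromSpec, ⊤) :=
    H6.IH.injective_of_equiv (sectionsEquiv F hU)
  have hiso : IsIso (Scheme.Modules.fromTildeΓ (R := Γ(X, U)) (F.restrict hU.fromSpec)) :=
    inferInstance
  have h3 : Injective (tilde (ModuleCat.of Γ(X, U) Γ(F.restrict hU.fromSpec, ⊤))) :=
    injective_tilde_of_injective Γ(X, U) _
  have h4 : Injective (F.restrict hU.fromSpec) :=
    Injective.of_iso (@asIso _ _ _ _
      (Scheme.Modules.fromTildeΓ (R := Γ(X, U)) (F.restrict hU.fromSpec)) hiso) h3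
  exact injective_restrict_ι_of_fromSpec F hU h4

end Sections

section S11154

variable {X : Scheme.{u}}

lemma quasiCompact_fromSpecStalk [IsLocallyNoetherian X] (x : X) :
    QuasiCompact (X.fromSpecStalk x) := by
  haveI : NoetherianSpace (Spec (X.presheaf.stalk x)) :=
    inferInstanceAs (NoetherianSpace (PrimeSpectrum (X.presheaf.stalk x)))
  exact ⟨fun U _ _ => NoetherianSpace.isCompact _⟩

/-- **S11154**. -/
theorem s11154 [IsLocallyNoetherian X] (x : X) (E : Type u) [AddCommGroup E]
    [Module (X.presheaf.stalk x) E]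
    (i : IsLocalRing.ResidueField (X.presheaf.stalk x) →ₗ[X.presheaf.stalk x] E)
    (hi : InjHull.IsInjectiveHull i) :
    Injective ((Scheme.Modules.pushforward (X.fromSpecStalk x)).obj
        (tilde (ModuleCat.of (X.presheaf.stalk x) E))) ∧
      ((Scheme.Modules.pushforward (X.fromSpecStalk x)).obj
        (tilde (ModuleCat.of (X.presheaf.stalk x) E))).IsQuasicoherent := by
  haveI := hi.isInjective
  have hpt : LocCoh.IsPowerTorsion (IsLocalRing.maximalIdeal (X.presheaf.stalk x)) E :=
    Groth.Agent.S0311.result (X.presheaf.stalk x) E i hi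
  haveI h1 : Injective (tilde (ModuleCat.of (X.presheaf.stalk x) E)) := by
    refine TildeSky.injective_tilde (X.presheaf.stalk x)
      (IsLocalRing.closedPoint (X.presheaf.stalk x)) E ?_ ?_
    · intro f hf
      have hu : IsUnit f := IsLocalRing.notMem_maximalIdeal.mp hf
      obtain ⟨u, rfl⟩ := hu
      refine Function.bijective_iff_has_inverse.mpr ⟨fun e => (↑u⁻¹ : X.presheaf.stalk x) • e,
        fun e => ?_, fun e => ?_⟩
      · show (↑u⁻¹ : X.presheaf.stalk x) • ((u : X.presheaf.stalk x) • e) = e
        rw [smul_smul, Units.inv_mul, one_smul]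
      · show (u : X.presheaf.stalk x) • ((↑u⁻¹ : X.presheaf.stalk x) • e) = e
        rw [smul_smul, Units.mul_inv, one_smul]
    · intro f hf e
      obtain ⟨n, hn⟩ := hpt e
      exact ⟨n, hn _ (Ideal.pow_mem_pow hf n)⟩
  haveI : Flat (X.fromSpecStalk x) := H9.FLH.flat_fromSpecStalk X x
  haveI : (Scheme.Modules.pullback (X.fromSpecStalk x)).PreservesMonomorphisms :=
    { preserves := fun v _ => FF.mono_pullback_of_flat (X.fromSpecStalk x) v }
  haveI : QuasiCompact (X.fromSpecStalk x) := quasiCompact_fromSpecStalk x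
  exact ⟨Injective.injective_of_adjoint
      (Scheme.Modules.pullbackPushforwardAdjunction (X.fromSpecStalk x)) _,
    QC.qc_pushforward (X.fromSpecStalk x) _⟩

end S11154

end Groth.Agent.LD.QcInj
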