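import Mathlib
import Groth.Agent.Lib.Lead.Inj.HullA
import Groth.Agent.Lib.Lead.Inj.QcInj
import Groth.Agent.H4.PCS5
import Groth.Agent.Lib.Helper5.AG.TildeExact

/-!
# Quasi-coherent modules on a locally Noetherian scheme embed into quasi-coherent injective
`O_X`-modules

The injective hull (in the category of all `O_X`-modules) of a quasi-coherent module on a locally
Noetherian scheme is quasi-coherent.
-/

set_option autoImplicit false
universe u
open CategoryTheory CategoryTheory.Limits AlgebraicGeometry TopologicalSpace Opposite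

namespace Groth.Agent.LD.HullB

open Groth.Agent.LD

section Restrict

variable {U X : Scheme.{u}} (j : U ⟶ X) [IsOpenImmersion j]

/-- restriction to an open subscheme preserves essential monomorphisms. -/
theorem essential_restrict {F E : X.Modules} (i : F ⟶ E) [Mono i] (hi : Decomp.Essential i) :
    Decomp.Essential ((Scheme.Modules.restrictFunctor j).map i) := by
  intro Y f hmono
  haveI := hmono
  haveI := ExtZeroGen.preservesFiniteLimits_extZero j
  haveI hunit : IsIso (CxOX.extZeroAdj j).unit := ExtZeroGen.isIso_unit j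
  haveI hεE : Mono ((CxOX.extZeroAdj j).counit.app E) := ExtZeroGen.mono_counit j E
  haveI : (Scheme.Modules.restrictFunctor j).IsRightAdjoint := (CxOX.extZeroAdj j).isRightAdjoint
  -- `m : j_! (ker f) ⟶ E`
  obtain ⟨m, hmdef⟩ : ∃ m : (CxOX.extZero j).obj (kernel f) ⟶ E,
      m = (CxOX.extZero j).map (kernel.ι f) ≫ (CxOX.extZeroAdj j).counit.app E := ⟨_, rfl⟩
  haveI hm : Mono m := by
    rw [hmdef]
    infer_instance
  -- (a)
  have ha0 : (CxOX.extZeroAdj j).unit.app (kernel f) ≫ (Scheme.Modules.restrictFunctor j).map m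
      = kernel.ι f := by
    rw [hmdef, Functor.map_comp, ← Category.assoc]
    have h1 := (CxOX.extZeroAdj j).unit_naturality (kernel.ι f)
    have h2 := (CxOX.extZeroAdj j).right_triangle_components E
    rw [h1, Category.assoc, h2, Category.comp_id]
  have ha : (Scheme.Modules.restrictFunctor j).map m ≫ f = 0 := by
    rw [← cancel_epi ((CxOX.extZeroAdj j).unit.app (kernel f)), ← Category.assoc, ha0,
      kernel.condition, comp_zero]
  -- (b)
  have hb : (Scheme.Modules.restrictFunctor j).map (pullback.snd m i) = 0 := by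
    rw [← cancel_mono ((Scheme.Modules.restrictFunctor j).map i ≫ f), zero_comp, ← Category.assoc,
      ← Functor.map_comp, ← pullback.condition, Functor.map_comp, Category.assoc, ha, comp_zero]
  -- (c)
  have hc : (Scheme.Modules.restrictFunctor j).map (pullback.fst m i) = 0 := by
    rw [← cancel_mono ((Scheme.Modules.restrictFunctor j).map m), zero_comp, ← Functor.map_comp,
      pullback.condition, Functor.map_comp, hb, zero_comp]
  -- (d)
  haveI hεP : IsIso ((CxOX.extZeroAdj j).counit.app (pullback m i)) :=
    ExtZeroGen.isIso_counit_of_mono j (kernel f) (pullback.fst m i)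
  have hd : pullback.fst m i = 0 := by
    have h1 := (CxOX.extZeroAdj j).counit_naturality (pullback.fst m i)
    rw [← cancel_epi ((CxOX.extZeroAdj j).counit.app (pullback m i)), ← h1, comp_zero]
    show (CxOX.extZero j).map ((Scheme.Modules.restrictFunctor j).map (pullback.fst m i)) ≫ _ = 0
    rw [hc, Functor.map_zero, zero_comp]
  have hP : IsZero (pullback m i) := IsZero.of_mono_eq_zero (pullback.fst m i) hd
  -- (e), (f)
  have he : IsZero ((CxOX.extZero j).obj (kernel f)) :=
    Decomp.isZero_of_essential_of_isZero_pullback i hi m hP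
  have hf' : IsZero (kernel f) :=
    ((Scheme.Modules.restrictFunctor j).map_isZero he).of_iso
      (asIso ((CxOX.extZeroAdj j).unit.app (kernel f)))
  exact Preadditive.mono_of_kernel_zero (hf'.eq_of_src _ _)

end Restrict

variable {X : Scheme.{u}}

/-- **the injective hull of a quasi-coherent module on a locally Noetherian scheme is
quasi-coherent**; in particular every quasi-coherent module embeds into a quasi-coherent injective
`O_X`-module. -/
theorem exists_qcoh_injective [IsLocallyNoetherian X] (F : X.Modules) (hF : F.IsQuasicoherent) :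
    ∃ (E : X.Modules) (i : F ⟶ E), Mono i ∧ Injective E ∧ E.IsQuasicoherent := by
  haveI := hF
  haveI : IsGrothendieckAbelian.{u} X.Modules :=
    Groth.Agent.H1.sheafOfModules_isGrothendieckAbelian
      (Opens.grothendieckTopology X) X.ringCatSheaf
  haveI : ∀ x : X, PreservesColimitsOfSize.{u, u} (DerSch.stalkFunctor X x) := fun x =>
    (Groth.Agent.H4.SPt4.stalkSkyAdj x).leftAdjoint_preservesColimits
  have hf : Decomp.JointlyFaithful (fun x : X => DerSch.stalkFunctor X x) :=
    fun A B χ h => FF.eq_zero_of_stalk χ h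
  obtain ⟨E, i, hi, hess, hinj⟩ := Decomp.exists_injective_hull hf F
  haveI := hi
  haveI := hinj
  refine ⟨E, i, hi, hinj, ?_⟩
  apply Groth.Agent.H4.PCS5.qc_of_local
  intro x
  obtain ⟨U, hU, hxU, -⟩ := (Opens.isBasis_iff_nbhd.mp X.isBasis_affineOpens) (Opens.mem_top x)
  refine ⟨Spec Γ(X, U), hU.fromSpec, inferInstance, ?_, ?_⟩
  · rw [hU.range_fromSpec]
    exact hxU
  haveI : IsNoetherianRing Γ(X, U) := IsLocallyNoetherian.component_noetherian ⟨U, hU⟩
  -- the affine embedding
  have hiso : IsIso (Scheme.Modules.fromTildeΓ (R := Γ(X, U)) (F.restrict hU.fromSpec)) :=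
    inferInstance
  obtain ⟨Io, ι₀, hι₀, hIo⟩ : ∃ (Io : ModuleCat.{u} Γ(X, U))
      (ι₀ : ModuleCat.of Γ(X, U) Γ(F.restrict hU.fromSpec, ⊤) ⟶ Io), Mono ι₀ ∧ Injective Io :=
    ⟨Injective.under _, Injective.ι _, inferInstance, inferInstance⟩
  haveI := hι₀
  haveI hIo' : Module.Injective Γ(X, U) Io :=
    (Module.injective_iff_injective_object Γ(X, U) Io).2 hIo
  haveI hG : Injective (tilde Io) :=
    QcInj.injective_tilde_of_injective Γ(X, U) Io
  haveI := H5.AG.tilde_preservesFiniteLimits Γ(X, U)
  haveI : (tilde.functor Γ(X, U)).PreservesMonomorphisms :=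
    preservesMonomorphisms_of_preservesLimitsOfShape _
  haveI hg₀ : Mono ((tilde.functor Γ(X, U)).map ι₀) := Functor.map_mono _ _
  -- `g : F|_U ⟶ G`
  obtain ⟨g, hgdef⟩ : ∃ g : F.restrict hU.fromSpec ⟶ tilde Io,
      g = @inv _ _ _ _ (Scheme.Modules.fromTildeΓ (R := Γ(X, U)) (F.restrict hU.fromSpec)) hiso ≫
        (tilde.functor Γ(X, U)).map ι₀ := ⟨_, rfl⟩
  haveI hgm : Mono g := by
    rw [hgdef]
    have h1 : Mono (@inv _ _ _ _
        (Scheme.Modules.fromTildeΓ (R := Γ(X, U)) (F.restrict hU.fromSpec)) hiso) :=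
      inferInstance
    exact mono_comp' h1 hg₀
  -- extend to the restriction of the hull
  have hess' := essential_restrict hU.fromSpec i hess
  haveI hmi : Mono ((Scheme.Modules.restrictFunctor hU.fromSpec).map i) := inferInstance
  have hθ : (Scheme.Modules.restrictFunctor hU.fromSpec).map i ≫
      Injective.factorThru g ((Scheme.Modules.restrictFunctor hU.fromSpec).map i) = g :=
    Injective.comp_factorThru _ _
  generalize Injective.factorThru g ((Scheme.Modules.restrictFunctor hU.fromSpec).map i) = θ at hθ
  haveI hθm : Mono θ := hess' θ (by rw [hθ]; exact hgm)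
  haveI hEU : Injective (E.restrict hU.fromSpec) := StalkInj.injective_restrict hU.fromSpec E
  have hr : θ ≫ Injective.factorThru (𝟙 (E.restrict hU.fromSpec)) θ = 𝟙 _ :=
    Injective.comp_factorThru _ _
  generalize Injective.factorThru (𝟙 (E.restrict hU.fromSpec)) θ = r at hr
  have hker := (H5.AG.isQuasicoherent_kernel_cokernel (R := Γ(X, U))
    (inferInstance : H5.AG.QC (tilde Io)) inferInstance (𝟙 _ - r ≫ θ)).1
  have hq : (SheafOfModules.isQuasicoherent (Spec Γ(X, U)).ringCatSheaf)
      (kernel (𝟙 (tilde Io) - r ≫ θ)) := hker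
  exact ObjectProperty.prop_of_iso (SheafOfModules.isQuasicoherent (Spec Γ(X, U)).ringCatSheaf)
    (Decomp.retractIsoKernel θ r hr).symm hq

end Groth.Agent.LD.HullB
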