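import Mathlib
import Groth.Agent.Lib.Lead.Inj.DecompA

/-!
# Injective objects are coproducts of indecomposable injectives

Abstract form (locally Noetherian Grothendieck category with points in which coproducts of
injectives are injective).
-/

set_option autoImplicit false
universe w' u' u u₁
open CategoryTheory CategoryTheory.Limits

namespace Groth.Agent.LD.Decomp

noncomputable section

open Classical

variable {𝒜 : Type u₁} [Category.{u} 𝒜] [Abelian 𝒜]
variable {P : Type*} {R : P → Type u'} [∀ x, Ring (R x)]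
variable (Φ : ∀ x, 𝒜 ⥤ ModuleCat.{w'} (R x)) [∀ x, (Φ x).Additive]
  [∀ x, PreservesFiniteLimits (Φ x)] [∀ x, PreservesFiniteColimits (Φ x)]
variable [IsGrothendieckAbelian.{u} 𝒜] [∀ x, PreservesColimitsOfSize.{u, u} (Φ x)]

section Family

variable {S : Type u} (Eo : S → 𝒜) {I : 𝒜} (ar : ∀ s, Eo s ⟶ I)

/-- the idempotent of `∐ Eo` projecting onto the components in `T`. -/
def πT (T : Set S) : ∐ Eo ⟶ ∐ Eo := Sigma.desc (fun s => if s ∈ T then Sigma.ι Eo s else 0)

lemma ι_πT (T : Set S) (s : S) :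
    Sigma.ι Eo s ≫ πT Eo T = if s ∈ T then Sigma.ι Eo s else 0 := by
  unfold πT
  rw [Sigma.ι_desc]

lemma πT_comp (T T' : Set S) : πT Eo T ≫ πT Eo T' = πT Eo (T ∩ T') := by
  apply Sigma.hom_ext
  intro s
  rw [← Category.assoc, ι_πT, ι_πT]
  by_cases h : s ∈ T
  · rw [if_pos h, ι_πT]
    by_cases h' : s ∈ T'
    · rw [if_pos h', if_pos ⟨h, h'⟩]
    · rw [if_neg h', if_neg (fun hh => h' hh.2)]
  · rw [if_neg h, zero_comp, if_neg (fun hh => h hh.1)]

lemma πT_insert (T : Set S) (s' : S) (hs' : s' ∉ T) :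
    πT Eo (insert s' T) = πT Eo T + πT Eo {s'} := by
  apply Sigma.hom_ext
  intro s
  rw [Preadditive.comp_add, ι_πT, ι_πT, ι_πT]
  by_cases h : s = s'
  · subst h
    rw [if_pos (Set.mem_insert _ _), if_neg hs', if_pos (Set.mem_singleton _), zero_add]
  · have h1 : s ∉ ({s'} : Set S) := h
    by_cases h2 : s ∈ T
    · rw [if_pos (Set.mem_insert_of_mem _ h2), if_pos h2, if_neg h1, add_zero]
    · rw [if_neg (fun hh => (Set.mem_insert_iff.1 hh).elim h h2), if_neg h2, if_neg h1, add_zero]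

lemma πT_singleton (s' : S) : πT Eo {s'} = Sigma.π Eo s' ≫ Sigma.ι Eo s' := by
  apply Sigma.hom_ext
  intro s
  rw [ι_πT, ← Category.assoc]
  by_cases h : s = s'
  · subst h
    rw [if_pos (Set.mem_singleton _), Sigma.ι_π_eq_id, Category.id_comp]
  · have h1 : s ∉ ({s'} : Set S) := h
    rw [if_neg h1, Sigma.ι_π_of_ne _ h, zero_comp]

/-- independence of the subfamily indexed by `T` (through points). -/
def Indep (T : Set S) : Prop :=
  ∀ (x : P) (w : (Φ x).obj (∐ Eo)),
    ((Φ x).map (Sigma.desc ar)).hom (((Φ x).map (πT Eo T)).hom w) = 0 →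
      ((Φ x).map (πT Eo T)).hom w = 0

lemma πT_fix_mono {T T' : Set S} (h : T ⊆ T') (x : P) (w : (Φ x).obj (∐ Eo))
    (hw : ((Φ x).map (πT Eo T)).hom w = w) : ((Φ x).map (πT Eo T')).hom w = w := by
  calc ((Φ x).map (πT Eo T')).hom w
      = ((Φ x).map (πT Eo T')).hom (((Φ x).map (πT Eo T)).hom w) := by rw [hw]
    _ = ((Φ x).map (πT Eo T ≫ πT Eo T')).hom w := (map_comp_apply Φ x _ _ w).symm
    _ = ((Φ x).map (πT Eo T)).hom w := by rw [πT_comp, Set.inter_eq_left.2 h]
    _ = w := hw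

lemma exists_finset_πT (x : P) (w : (Φ x).obj (∐ Eo)) :
    ∃ J : Finset S, ((Φ x).map (πT Eo (J : Set S))).hom w = w := by
  have hw : w ∈ ⨆ j, LinearMap.range ((Φ x).map (Sigma.ι Eo j)).hom := by
    rw [iSup_range_ι_eq_top Φ Eo x]
    exact Submodule.mem_top
  refine Submodule.iSup_induction (fun j => LinearMap.range ((Φ x).map (Sigma.ι Eo j)).hom)
    (motive := fun w => ∃ J : Finset S, ((Φ x).map (πT Eo (J : Set S))).hom w = w) hw ?_ ?_ ?_
  · rintro j _ ⟨z, rfl⟩
    refine ⟨{j}, ?_⟩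
    rw [← map_comp_apply Φ x (Sigma.ι Eo j) _ z, ι_πT, if_pos (by simp)]
  · exact ⟨∅, map_zero _⟩
  · rintro a b ⟨J₁, h₁⟩ ⟨J₂, h₂⟩
    refine ⟨J₁ ∪ J₂, ?_⟩
    rw [map_add, πT_fix_mono Φ Eo (Finset.coe_subset.2 Finset.subset_union_left) x a h₁,
      πT_fix_mono Φ Eo (Finset.coe_subset.2 Finset.subset_union_right) x b h₂]

lemma indep_empty : Indep Φ Eo ar ∅ := by
  intro x w _
  have h : πT Eo (∅ : Set S) = 0 := by
    apply Sigma.hom_ext
    intro s
    rw [ι_πT, if_neg (Set.notMem_empty s), comp_zero]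
  rw [h, (Φ x).map_zero]
  simp

lemma indep_sUnion (c : Set (Set S)) (hc : IsChain (· ⊆ ·) c) (hne : c.Nonempty)
    (h : ∀ T ∈ c, Indep Φ Eo ar T) : Indep Φ Eo ar (⋃₀ c) := by
  intro x w hw
  obtain ⟨J, hJ⟩ := exists_finset_πT Φ Eo x (((Φ x).map (πT Eo (⋃₀ c))).hom w)
  have hz : ((Φ x).map (πT Eo (⋃₀ c))).hom w = ((Φ x).map (πT Eo (⋃₀ c ∩ (J : Set S)))).hom w := by
    rw [← πT_comp, map_comp_apply, hJ]
  obtain ⟨T, hT, hsub⟩ := DirectedOn.exists_mem_subset_of_finite_of_subset_sUnion hne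
    hc.directedOn (s := ⋃₀ c ∩ (J : Set S)) (J.finite_toSet.subset Set.inter_subset_right)
    Set.inter_subset_left
  have hfix : ((Φ x).map (πT Eo T)).hom (((Φ x).map (πT Eo (⋃₀ c))).hom w)
      = ((Φ x).map (πT Eo (⋃₀ c))).hom w := by
    rw [hz, ← map_comp_apply, πT_comp, Set.inter_eq_left.2 hsub]
  have h1 := h T hT x (((Φ x).map (πT Eo (⋃₀ c))).hom w) (by rw [hfix]; exact hw)
  rw [hfix] at h1
  exact h1

variable {Φ} in
/-- an independent subfamily gives a monomorphism from the coproduct. -/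
lemma mono_desc_of_indep (hf : JointlyFaithful Φ) (T : Set S) (hT : Indep Φ Eo ar T) :
    Mono (Sigma.desc (fun t : T => ar t.1)) := by
  have h1 : Sigma.desc (fun t : T => Sigma.ι Eo t.1) ≫ πT Eo T
      = Sigma.desc (fun t : T => Sigma.ι Eo t.1) := by
    apply Sigma.hom_ext
    intro t
    rw [← Category.assoc, Sigma.ι_desc, ι_πT, if_pos t.2]
  have h2 : Sigma.desc (fun t : T => Sigma.ι Eo t.1) ≫ Sigma.desc ar
      = Sigma.desc (fun t : T => ar t.1) := by
    apply Sigma.hom_ext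
    intro t
    rw [← Category.assoc, Sigma.ι_desc, Sigma.ι_desc, Sigma.ι_desc]
  have h3 : Sigma.desc (fun t : T => Sigma.ι Eo t.1) ≫
      Sigma.desc (fun s => if h : s ∈ T then Sigma.ι (fun t : T => Eo t.1) ⟨s, h⟩ else 0) = 𝟙 _ := by
    apply Sigma.hom_ext
    intro t
    rw [← Category.assoc, Sigma.ι_desc, Sigma.ι_desc, dif_pos t.2, Category.comp_id]
  apply hf.mono
  intro x
  rw [injective_iff_map_eq_zero]
  intro v hv
  have h4 : ((Φ x).map (πT Eo T)).hom
      (((Φ x).map (Sigma.desc (fun t : T => Sigma.ι Eo t.1))).hom v)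
      = ((Φ x).map (Sigma.desc (fun t : T => Sigma.ι Eo t.1))).hom v := by
    rw [← map_comp_apply, h1]
  have h5 := hT x (((Φ x).map (Sigma.desc (fun t : T => Sigma.ι Eo t.1))).hom v)
    (by rw [h4, ← map_comp_apply, h2, hv])
  rw [h4] at h5
  have h6 : v = ((Φ x).map (Sigma.desc
      (fun s => if h : s ∈ T then Sigma.ι (fun t : T => Eo t.1) ⟨s, h⟩ else 0))).hom
      (((Φ x).map (Sigma.desc (fun t : T => Sigma.ι Eo t.1))).hom v) := by
    rw [← map_comp_apply, h3, (Φ x).map_id]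
    rfl
  rw [h6, h5, map_zero]

/-- adding a member killed by a retraction of the subcoproduct keeps independence. -/
lemma indep_insert (T : Set S) (ρ : I ⟶ ∐ (fun t : T => Eo t.1))
    (hρ : Sigma.desc (fun t : T => ar t.1) ≫ ρ = 𝟙 _) (s' : S) (hs' : s' ∉ T)
    (hs'ρ : ar s' ≫ ρ = 0) [Mono (ar s')] : Indep Φ Eo ar (insert s' T) := by
  intro x w hw
  have key1 : πT Eo T ≫ Sigma.desc ar ≫ ρ
      = Sigma.desc (fun s => if h : s ∈ T then Sigma.ι (fun t : T => Eo t.1) ⟨s, h⟩ else 0) := by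
    apply Sigma.hom_ext
    intro s
    rw [← Category.assoc, ι_πT, Sigma.ι_desc]
    by_cases h : s ∈ T
    · rw [if_pos h, dif_pos h, ← Category.assoc, Sigma.ι_desc]
      have h1 : Sigma.ι (fun t : T => Eo t.1) ⟨s, h⟩ ≫ Sigma.desc (fun t : T => ar t.1) = ar s :=
        Sigma.ι_desc _ _
      rw [← h1, Category.assoc, hρ, Category.comp_id]
    · rw [if_neg h, dif_neg h, zero_comp]
  have key2 : πT Eo {s'} ≫ Sigma.desc ar ≫ ρ = 0 := by
    rw [πT_singleton, Category.assoc, ← Category.assoc (Sigma.ι Eo s'), Sigma.ι_desc, hs'ρ,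
      comp_zero]
  have key3 : Sigma.desc (fun s => if h : s ∈ T then Sigma.ι (fun t : T => Eo t.1) ⟨s, h⟩ else 0)
      ≫ Sigma.desc (fun t : T => Sigma.ι Eo t.1) = πT Eo T := by
    apply Sigma.hom_ext
    intro s
    rw [← Category.assoc, Sigma.ι_desc, ι_πT]
    by_cases h : s ∈ T
    · rw [dif_pos h, if_pos h, Sigma.ι_desc]
    · rw [dif_neg h, if_neg h, zero_comp]
  have hsplit : ((Φ x).map (πT Eo (insert s' T))).hom w
      = ((Φ x).map (πT Eo T)).hom w + ((Φ x).map (πT Eo {s'})).hom w := by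
    rw [πT_insert Eo T s' hs', (Φ x).map_add]
    rfl
  rw [hsplit] at hw ⊢
  -- apply `ρ`
  have h1 : ((Φ x).map ρ).hom (((Φ x).map (Sigma.desc ar)).hom
      (((Φ x).map (πT Eo T)).hom w + ((Φ x).map (πT Eo {s'})).hom w)) = 0 := by
    rw [hw, map_zero]
  rw [map_add, map_add, ← map_comp_apply, ← map_comp_apply, ← map_comp_apply, ← map_comp_apply,
    key1, key2, (Φ x).map_zero] at h1
  have h2 : ((Φ x).map (Sigma.desc
      (fun s => if h : s ∈ T then Sigma.ι (fun t : T => Eo t.1) ⟨s, h⟩ else 0))).hom w = 0 := by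
    simpa using h1
  have h3 : ((Φ x).map (πT Eo T)).hom w = 0 := by
    rw [← key3, map_comp_apply, h2, map_zero]
  rw [h3, zero_add] at hw ⊢
  -- the singleton part
  rw [πT_singleton, map_comp_apply] at hw ⊢
  rw [← map_comp_apply, Sigma.ι_desc] at hw
  have h4 : ((Φ x).map (Sigma.π Eo s')).hom w = 0 := by
    apply map_injective Φ x (ar s')
    rw [hw, map_zero]
  rw [h4, map_zero]

end Family

variable {Φ}

/-- **Matlis–Gabriel decomposition** in abstract form. -/
theorem exists_decomposition (hf : JointlyFaithful Φ) {W : Type*} (G : W → 𝒜)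
    (hN : ∀ w, WellFoundedGT (Subobject (G w)))
    (hgen : ∀ F : 𝒜, ¬ IsZero F → ∃ (w : W) (ψ : G w ⟶ F), ψ ≠ 0)
    (hsum : ∀ {ι : Type u} (J : ι → 𝒜), (∀ i, Injective (J i)) → Injective (∐ J))
    (I : 𝒜) [Injective I] :
    ∃ (ι : Type u) (J : ι → 𝒜), (∀ i, Injective (J i)) ∧ (∀ i, ¬ IsZero (J i)) ∧
      (∀ i, Indecomposable (J i)) ∧ Nonempty (I ≅ ∐ J) := by
  obtain ⟨Eo, hEo⟩ : ∃ Eo : Shrink.{u} (Subobject I) → 𝒜,
      Eo = fun s => (((equivShrink (Subobject I)).symm s : Subobject I) : 𝒜) := ⟨_, rfl⟩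
  subst hEo
  obtain ⟨T, -, hT⟩ := zorn_subset_nonempty
    {T : Set (Shrink.{u} (Subobject I)) |
      (∀ s ∈ T, Injective (((equivShrink (Subobject I)).symm s : Subobject I) : 𝒜) ∧
        ¬ IsZero (((equivShrink (Subobject I)).symm s : Subobject I) : 𝒜) ∧
        Indecomposable (((equivShrink (Subobject I)).symm s : Subobject I) : 𝒜)) ∧
      Indep Φ (fun s => (((equivShrink (Subobject I)).symm s : Subobject I) : 𝒜))
        (fun s => ((equivShrink (Subobject I)).symm s).arrow) T}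
    (fun c hcs hc hne => ⟨⋃₀ c,
      ⟨fun s ⟨T, hT, hsT⟩ => (hcs hT).1 s hsT,
        indep_sUnion Φ _ _ c hc hne (fun T hT => (hcs hT).2)⟩,
      fun T hT => Set.subset_sUnion_of_mem hT⟩)
    ∅ ⟨fun s hs => (Set.notMem_empty s hs).elim, indep_empty Φ _ _⟩
  obtain ⟨⟨hT0, hTind⟩, hTmax⟩ := hT
  haveI hmono := mono_desc_of_indep _ _ hf T hTind
  haveI hSig : Injective (∐ fun t : T => (((equivShrink (Subobject I)).symm t.1 : Subobject I) : 𝒜)) :=
    hsum _ (fun t => (hT0 t.1 t.2).1)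
  have hρ : Sigma.desc (fun t : T => ((equivShrink (Subobject I)).symm t.1).arrow) ≫
      Injective.factorThru (𝟙 _) (Sigma.desc
        (fun t : T => ((equivShrink (Subobject I)).symm t.1).arrow)) = 𝟙 _ :=
    Injective.comp_factorThru _ _
  generalize Injective.factorThru (𝟙 _) (Sigma.desc
        (fun t : T => ((equivShrink (Subobject I)).symm t.1).arrow)) = ρ at hρ
  have hker : IsZero (kernel ρ) := by
    by_contra hnz
    -- the complement is injective
    have hcond : (𝟙 I - ρ ≫ Sigma.desc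
        (fun t : T => ((equivShrink (Subobject I)).symm t.1).arrow)) ≫ ρ = 0 := by
      rw [Preadditive.sub_comp, Category.id_comp, Category.assoc, hρ, Category.comp_id, sub_self]
    haveI : Injective (kernel ρ) := by
      refine injective_of_retract (kernel.ι ρ) (kernel.lift ρ _ hcond) ?_
      apply (cancel_mono (kernel.ι ρ)).1
      rw [Category.assoc, kernel.lift_ι, Preadditive.comp_sub, Category.comp_id, Category.id_comp,
        ← Category.assoc, kernel.condition, zero_comp, sub_zero]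
    obtain ⟨w, ψ, hψ⟩ := hgen _ hnz
    haveI := hN w
    obtain ⟨E', e', he', hinj, hne, hind⟩ := exists_indecomposable_injective_sub hf ψ hψ
    haveI := he'
    obtain ⟨s', hs'⟩ : ∃ s', (equivShrink (Subobject I)).symm s' = Subobject.mk (e' ≫ kernel.ι ρ) :=
      ⟨equivShrink (Subobject I) (Subobject.mk (e' ≫ kernel.ι ρ)), Equiv.symm_apply_apply _ _⟩
    have hprop : ∀ K : Subobject I, K = Subobject.mk (e' ≫ kernel.ι ρ) →
        (Injective (K : 𝒜) ∧ ¬ IsZero (K : 𝒜) ∧ Indecomposable (K : 𝒜)) ∧ K.arrow ≫ ρ = 0 := by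
      rintro K rfl
      refine ⟨⟨Injective.of_iso (Subobject.underlyingIso (e' ≫ kernel.ι ρ)).symm hinj,
        fun hz => hne (hz.of_iso (Subobject.underlyingIso (e' ≫ kernel.ι ρ)).symm), ?_⟩, ?_⟩
      · intro A B ⟨i⟩
        exact hind A B ⟨(Subobject.underlyingIso (e' ≫ kernel.ι ρ)).symm ≪≫ i⟩
      · rw [← Subobject.underlyingIso_hom_comp_eq_mk, Category.assoc, Category.assoc,
          kernel.condition, comp_zero, comp_zero]
    obtain ⟨hs'0, hs'ρ⟩ := hprop _ hs'
    have hs'T : s' ∉ T := by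
      intro hmem
      have h1 : Sigma.ι (fun t : T => (((equivShrink (Subobject I)).symm t.1 : Subobject I) : 𝒜))
          ⟨s', hmem⟩ ≫ Sigma.desc (fun t : T => ((equivShrink (Subobject I)).symm t.1).arrow)
          = ((equivShrink (Subobject I)).symm s').arrow := Sigma.ι_desc _ _
      have h2 : ((equivShrink (Subobject I)).symm s').arrow = 0 := by
        have h3 := congrArg (fun f => f ≫ ρ) h1
        simp only [Category.assoc, hρ, Category.comp_id, hs'ρ] at h3
        rw [← h1, h3, zero_comp]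
      exact hs'0.2.1 (IsZero.of_mono_eq_zero _ h2)
    have hins := indep_insert Φ
      (fun s => (((equivShrink (Subobject I)).symm s : Subobject I) : 𝒜))
      (fun s => ((equivShrink (Subobject I)).symm s).arrow) T ρ hρ s' hs'T hs'ρ
    have hmem : insert s' T ∈ {T : Set (Shrink.{u} (Subobject I)) |
        (∀ s ∈ T, Injective (((equivShrink (Subobject I)).symm s : Subobject I) : 𝒜) ∧
          ¬ IsZero (((equivShrink (Subobject I)).symm s : Subobject I) : 𝒜) ∧
          Indecomposable (((equivShrink (Subobject I)).symm s : Subobject I) : 𝒜)) ∧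
        Indep Φ (fun s => (((equivShrink (Subobject I)).symm s : Subobject I) : 𝒜))
          (fun s => ((equivShrink (Subobject I)).symm s).arrow) T} := by
      refine ⟨?_, hins⟩
      intro s hs
      rcases Set.mem_insert_iff.1 hs with rfl | hs
      · exact hs'0
      · exact hT0 s hs
    exact hs'T (hTmax hmem (Set.subset_insert s' T) (Set.mem_insert s' T))
  haveI hρmono : Mono ρ := Preadditive.mono_of_kernel_zero (hker.eq_of_src _ _)
  refine ⟨T, fun t => (((equivShrink (Subobject I)).symm t.1 : Subobject I) : 𝒜),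
    fun t => (hT0 t.1 t.2).1, fun t => (hT0 t.1 t.2).2.1, fun t => (hT0 t.1 t.2).2.2, ⟨?_⟩⟩
  refine ⟨ρ, Sigma.desc (fun t : T => ((equivShrink (Subobject I)).symm t.1).arrow), ?_, hρ⟩
  apply (cancel_mono ρ).1
  rw [Category.assoc, hρ, Category.comp_id, Category.id_comp]

end

end Groth.Agent.LD.Decomp
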