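import Mathlib
import Groth.Agent.Lib.Lead.Inj.DecompB
import Groth.Agent.Lib.Lead.Inj.SigmaInj

/-!
# Injective `O_X`-modules on a locally Noetherian scheme are direct sums of indecomposable
injectives (S12434)
-/

set_option autoImplicit false
universe u
open CategoryTheory CategoryTheory.Limits AlgebraicGeometry TopologicalSpace Opposite ZeroObject

namespace Groth.Agent.LD.DecompC

open Groth.Agent.LD

variable {X : Scheme.{u}}

/-- **S12434**. -/
theorem s12434 [IsLocallyNoetherian X] (I : X.Modules) (hI : Injective I) :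
    ∃ (ι : Type u) (J : ι → X.Modules), (∀ i, Injective (J i)) ∧ (∀ i, ¬ IsZero (J i)) ∧
      (∀ i (A B : X.Modules), Nonempty (J i ≅ A ⊞ B) → IsZero A ∨ IsZero B) ∧
      Nonempty (I ≅ ∐ J) := by
  haveI : IsGrothendieckAbelian.{u} X.Modules :=
    Groth.Agent.H1.sheafOfModules_isGrothendieckAbelian
      (Opens.grothendieckTopology X) X.ringCatSheaf
  haveI : ∀ x : X, PreservesColimitsOfSize.{u, u} (DerSch.stalkFunctor X x) := fun x =>
    (Groth.Agent.H4.SPt4.stalkSkyAdj x).leftAdjoint_preservesColimits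
  have hf : Decomp.JointlyFaithful (fun x : X => DerSch.stalkFunctor X x) :=
    fun A B χ h => FF.eq_zero_of_stalk χ h
  have hN : ∀ W : X.affineOpens, WellFoundedGT (Subobject (SigmaInj.gen W)) := by
    intro W
    haveI : IsAffine W.1.toScheme := W.2
    exact wellFoundedGT_iff_monotone_chain_condition.2 (fun c => ExtZeroGen.s11158 W.1.ι c)
  have hgen : ∀ F : X.Modules, ¬ IsZero F →
      ∃ (W : X.affineOpens) (ψ : SigmaInj.gen W ⟶ F), ψ ≠ 0 := by
    intro F hF
    by_contra hcon
    push_neg at hcon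
    haveI : IsIso (0 : (0 : X.Modules) ⟶ F) :=
      SigmaInj.isIso_of_lifts (0 : (0 : X.Modules) ⟶ F)
        (fun W f => ⟨0, by rw [hcon W f, zero_comp]⟩)
    exact hF ((isZero_zero _).of_iso (asIso (0 : (0 : X.Modules) ⟶ F)).symm)
  haveI := hI
  exact Decomp.exists_decomposition hf (fun W : X.affineOpens => SigmaInj.gen W) hN hgen
    (fun J hJ => SigmaInj.s11157 J hJ) I

end Groth.Agent.LD.DecompC
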