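import Mathlib
import Groth.Agent.Lib.Lead.Inj.QcInj
import Groth.Agent.Lib.Lead.XS.Vanish
import Groth.Agent.Lib.Lead.EZ.ExtLocFree
import Groth.Agent.Lib.Helper5.ExtG1.A
import Groth.Agent.Lib.Helper2.WeilStalk
import Groth.Agent.Lib.Helper2.IsoLocus
import Groth.Agent.Lib.Lead.Misc3.KRRUnit

/-!
# A quasi-coherent module on a locally Noetherian scheme is injective iff `𝓔xt¹(G, F) = 0` for all
coherent `G`

Stalkwise Baer criterion: for a point `x` and an ideal `𝔞` of `O_{X,x}`, the kernel `K` of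
`O_X ⟶ f_* O`, `f : Spec (O_{X,x}/𝔞) ⟶ X`, is a coherent ideal whose stalk at `x` is `𝔞`; the
vanishing of `𝓔xt¹(O_X/K, F)` makes `𝓗om(O_X, F) ⟶ 𝓗om(K, F)` an epimorphism, hence linear maps
`𝔞 ⟶ F_x` extend to `O_{X,x}`.
-/

set_option autoImplicit false
set_option linter.style.haveILetI false
noncomputable section
universe u
open CategoryTheory Limits AlgebraicGeometry TopologicalSpace Opposite

namespace Groth.Agent.LD.ExtCrit

open Groth.Agent.H2.HomSh Groth.Agent.LD Groth.Agent.LD.PD.HA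

attribute [-instance] Groth.Agent.LD.QC.stalkModule
attribute [local instance] Groth.Agent.LD.MS.hasSheafHom

variable {X : Scheme.{u}}

/-- restriction along an inclusion of opens whose source is everything is injective. -/
lemma presheaf_map_injective_of_forall_mem (Y : Scheme.{u}) {A B : Y.Opens} (i : B ⟶ A)
    (hB : ∀ y : Y, y ∈ B) : Function.Injective (Y.presheaf.map i.op).hom := by
  have hAB : A ≤ B := fun y _ => hB y
  haveI : IsIso i := ⟨⟨homOfLE hAB, Subsingleton.elim _ _, Subsingleton.elim _ _⟩⟩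
  exact (ConcreteCategory.bijective_of_isIso (Y.presheaf.map i.op)).1

section PointIdeal

variable (x : X) (𝔞 : Ideal (X.presheaf.stalk x))

/-- the quotient map `O_{X,x} ⟶ O_{X,x}/𝔞`, in `CommRingCat`. -/
def qHom : X.presheaf.stalk x ⟶ CommRingCat.of (X.presheaf.stalk x ⧸ 𝔞) :=
  CommRingCat.ofHom (Ideal.Quotient.mk 𝔞)

/-- `Spec (O_{X,x}/𝔞) ⟶ X`. -/
def quotMap : Spec (CommRingCat.of (X.presheaf.stalk x ⧸ 𝔞)) ⟶ X :=
  Spec.map (qHom x 𝔞) ≫ X.fromSpecStalk x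

lemma forall_mem_preimage {U : X.Opens} (hxU : x ∈ U)
    (y : Spec (CommRingCat.of (X.presheaf.stalk x ⧸ 𝔞))) : y ∈ (quotMap x 𝔞) ⁻¹ᵁ U := by
  have h1 : X.fromSpecStalk x (Spec.map (qHom x 𝔞) y) ∈ Set.range (X.fromSpecStalk x) := ⟨_, rfl⟩
  rw [Scheme.range_fromSpecStalk] at h1
  have h2 : X.fromSpecStalk x (Spec.map (qHom x 𝔞) y) ∈ U :=
    Specializes.mem_open h1 U.2 hxU
  exact h2

/-- the components of `Spec (O_{X,x}/𝔞) ⟶ X` over opens containing `x`. -/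
lemma quotMap_app {U : X.Opens} (hxU : x ∈ U) :
    (quotMap x 𝔞).app U = X.presheaf.germ U x hxU ≫ qHom x 𝔞 ≫
      (Scheme.ΓSpecIso (CommRingCat.of (X.presheaf.stalk x ⧸ 𝔞))).inv ≫
      (Spec (CommRingCat.of (X.presheaf.stalk x ⧸ 𝔞))).presheaf.map
        (homOfLE (le_top : (quotMap x 𝔞) ⁻¹ᵁ U ≤ ⊤)).op := by
  have h1 : (quotMap x 𝔞).app U = (X.fromSpecStalk x).app U ≫
      (Spec.map (qHom x 𝔞)).app ((X.fromSpecStalk x) ⁻¹ᵁ U) := rfl
  have h2 := (Spec.map (qHom x 𝔞)).naturality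
    (homOfLE (le_top : (X.fromSpecStalk x) ⁻¹ᵁ U ≤ ⊤)).op
  have h3 := Scheme.ΓSpecIso_inv_naturality (qHom x 𝔞)
  rw [h1, Scheme.fromSpecStalk_app hxU, Category.assoc, Category.assoc, h2,
    ← Category.assoc (Scheme.ΓSpecIso (X.presheaf.stalk x)).inv]
  erw [← h3]
  refine congrArg (fun t => X.presheaf.germ U x hxU ≫ t) ?_
  exact Category.assoc _ _ _

lemma app_eq_zero_iff {U : X.Opens} (hxU : x ∈ U) (s : Γ(X, U)) :
    ((quotMap x 𝔞).app U).hom s = 0 ↔ X.presheaf.germ U x hxU s ∈ 𝔞 := by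
  rw [quotMap_app x 𝔞 hxU]
  simp only [CommRingCat.hom_comp, RingHom.comp_apply]
  have hinj1 := presheaf_map_injective_of_forall_mem
    (Spec (CommRingCat.of (X.presheaf.stalk x ⧸ 𝔞)))
    (homOfLE (le_top : (quotMap x 𝔞) ⁻¹ᵁ U ≤ ⊤)) (forall_mem_preimage x 𝔞 hxU)
  have hinj2 : Function.Injective
      (Scheme.ΓSpecIso (CommRingCat.of (X.presheaf.stalk x ⧸ 𝔞))).inv.hom :=
    (ConcreteCategory.bijective_of_isIso
      (Scheme.ΓSpecIso (CommRingCat.of (X.presheaf.stalk x ⧸ 𝔞))).inv).1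
  rw [map_eq_zero_iff _ hinj1, map_eq_zero_iff _ hinj2]
  exact Ideal.Quotient.eq_zero_iff_mem

end PointIdeal

section Sheaf

variable (x : X) (𝔞 : Ideal (X.presheaf.stalk x))

/-- the structure map `O_X ⟶ f_* O`, `f : Spec (O_{X,x}/𝔞) ⟶ X`. -/
abbrev strMap : Coh.structureModule X ⟶ (Scheme.Modules.pushforward (quotMap x 𝔞)).obj
    (Coh.structureModule (Spec (CommRingCat.of (X.presheaf.stalk x ⧸ 𝔞)))) :=
  ClSub.unitToPush (quotMap x 𝔞)

/-- the coherent ideal with stalk `𝔞` at `x`. -/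
abbrev idl : X.Modules := kernel (strMap x 𝔞)

/-- its inclusion. -/
abbrev idlι : idl x 𝔞 ⟶ Coh.structureModule X := kernel.ι (strMap x 𝔞)

lemma strMap_app_eq_zero_iff {U : X.Opens} (hxU : x ∈ U) (s : Γ(Coh.structureModule X, U)) :
    (strMap x 𝔞).app U s = 0 ↔ X.presheaf.germ U x hxU (show Γ(X, U) from s) ∈ 𝔞 :=
  app_eq_zero_iff x 𝔞 hxU s

lemma stalk_mem (k : (idl x 𝔞).presheaf.stalk x) :
    (unitStalkEquiv x).symm (RefHull.stalkMapₗ (idlι x 𝔞) x k) ∈ 𝔞 := by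
  obtain ⟨U, hxU, c, rfl⟩ := TopCat.Presheaf.exists_germ_eq (idl x 𝔞).presheaf k
  rw [RefHull.stalkMapₗ_germ]
  have h0 : (strMap x 𝔞).app U ((idlι x 𝔞).app U c) = 0 :=
    (QC.mem_range_kernel_ι_iff (strMap x 𝔞) U _).mp ⟨c, rfl⟩
  have h2 := (strMap_app_eq_zero_iff x 𝔞 hxU _).mp h0
  have h3 := Groth.Agent.H2.Weil.unitStalkEquiv_germ U x hxU
    (show Γ(X, U) from (idlι x 𝔞).app U c)
  have h4 : (unitStalkEquiv x).symm
      ((Coh.structureModule X).presheaf.germ U x hxU ((idlι x 𝔞).app U c)) =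
      X.presheaf.germ U x hxU (show Γ(X, U) from (idlι x 𝔞).app U c) :=
    (LinearEquiv.symm_apply_eq _).mpr h3.symm
  rw [h4]
  exact h2

lemma exists_stalk (a : X.presheaf.stalk x) (ha : a ∈ 𝔞) :
    ∃ k : (idl x 𝔞).presheaf.stalk x,
      RefHull.stalkMapₗ (idlι x 𝔞) x k = unitStalkEquiv x a := by
  obtain ⟨U, hxU, s, rfl⟩ := TopCat.Presheaf.exists_germ_eq X.presheaf a
  have h1 : (strMap x 𝔞).app U (show Γ(Coh.structureModule X, U) from s) = 0 :=
    (strMap_app_eq_zero_iff x 𝔞 hxU _).mpr ha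
  obtain ⟨c, hc⟩ := (QC.mem_range_kernel_ι_iff (strMap x 𝔞) U _).mpr h1
  refine ⟨(idl x 𝔞).presheaf.germ U x hxU c, ?_⟩
  rw [RefHull.stalkMapₗ_germ, hc]
  exact (Groth.Agent.H2.Weil.unitStalkEquiv_germ U x hxU s).symm

lemma qc_structureModule (Y : Scheme.{u}) : (Coh.structureModule Y).IsQuasicoherent :=
  QC.qc_of_isFinLocFree _ (KRRUnit.isFinLocFree_structureModule Y)

variable [IsLocallyNoetherian X]

lemma quasiCompact_quotMap : QuasiCompact (quotMap x 𝔞) := by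
  haveI := QcInj.quasiCompact_fromSpecStalk x
  unfold quotMap
  infer_instance

lemma quasiSeparated_quotMap : QuasiSeparated (quotMap x 𝔞) := by
  unfold quotMap
  infer_instance

lemma qc_idl : (idl x 𝔞).IsQuasicoherent := by
  haveI := quasiCompact_quotMap x 𝔞
  haveI := quasiSeparated_quotMap x 𝔞
  haveI := qc_structureModule (Spec (CommRingCat.of (X.presheaf.stalk x ⧸ 𝔞)))
  exact QC.qc_kernel (strMap x 𝔞) (qc_structureModule X) (QC.qc_pushforward (quotMap x 𝔞) _)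

lemma fp_idl : (idl x 𝔞).IsFinitePresentation :=
  QC.isFinitePresentation_of_qc_ft _ (qc_idl x 𝔞)
    (QC.isFiniteType_of_mono (idlι x 𝔞) (qc_idl x 𝔞) (qc_structureModule X)
      (Groth.Agent.H2.IsoLocus.isFiniteType_structureModule X))

lemma isCoh_coker : Coh.IsCoh (cokernel (idlι x 𝔞)) :=
  ⟨QC.qc_cokernel (idlι x 𝔞) (qc_idl x 𝔞) (qc_structureModule X),
    QC.isFiniteType_of_epi (cokernel.π (idlι x 𝔞)) (qc_structureModule X)
      (QC.qc_cokernel (idlι x 𝔞) (qc_idl x 𝔞) (qc_structureModule X))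
      (Groth.Agent.H2.IsoLocus.isFiniteType_structureModule X)⟩

/-- **Baer's criterion at a stalk**, through the coherent ideals `idl x 𝔞`. -/
theorem baer_stalk (F : X.Modules) (x : X)
    (hepi : ∀ 𝔞 : Ideal (X.presheaf.stalk x), Epi (preHom (idlι x 𝔞) F)) :
    Module.Injective (X.presheaf.stalk x) (F.presheaf.stalk x) := by
  refine Module.Baer.injective (fun 𝔞 g => ?_)
  obtain ⟨L, hL⟩ : ∃ L : (idl x 𝔞).presheaf.stalk x →ₗ[X.presheaf.stalk x] X.presheaf.stalk x,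
      L = (unitStalkEquiv x).symm.toLinearMap ∘ₗ RefHull.stalkMapₗ (idlι x 𝔞) x := ⟨_, rfl⟩
  have hLmem : ∀ k, L k ∈ 𝔞 := by
    intro k
    rw [hL]
    exact stalk_mem x 𝔞 k
  obtain ⟨Θ, hΘ⟩ := stalk_extend_of_epi_preHom (idlι x 𝔞) F (fp_idl x 𝔞) (hepi 𝔞) x
    (g ∘ₗ LinearMap.codRestrict 𝔞 L hLmem)
  refine ⟨Θ ∘ₗ (unitStalkEquiv x).toLinearMap, fun a ha => ?_⟩
  obtain ⟨k, hk⟩ := exists_stalk x 𝔞 a ha
  have h1 : Θ (unitStalkEquiv x a) = (g ∘ₗ LinearMap.codRestrict 𝔞 L hLmem) k := by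
    rw [← hk, hΘ]
    rfl
  have h2 : LinearMap.codRestrict 𝔞 L hLmem k = ⟨a, ha⟩ := by
    apply Subtype.ext
    show L k = a
    rw [hL]
    show (unitStalkEquiv x).symm (RefHull.stalkMapₗ (idlι x 𝔞) x k) = a
    rw [hk, LinearEquiv.symm_apply_apply]
  show Θ (unitStalkEquiv x a) = g ⟨a, ha⟩
  rw [h1]
  show g (LinearMap.codRestrict 𝔞 L hLmem k) = g ⟨a, ha⟩
  rw [h2]

variable [HasInjectiveResolutions (ModSite.Mod X.sheaf)]

/-- vanishing of `𝓔xt¹(O_X/idl, F)` makes `𝓗om(O_X, F) ⟶ 𝓗om(idl, F)` an epimorphism. -/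
theorem epi_preHom_of_isZero (F : X.Modules)
    (hz : IsZero ((ModSite.extSh (O := X.sheaf) (cokernel (idlι x 𝔞)) 1).obj F)) :
    Epi (preHom (idlι x 𝔞) F) := by
  have hS : (ShortComplex.mk (idlι x 𝔞) (cokernel.π (idlι x 𝔞))
      (cokernel.condition (idlι x 𝔞))).ShortExact :=
    { exact := ShortComplex.exact_cokernel (idlι x 𝔞)
      mono_f := (inferInstance : Mono (idlι x 𝔞))
      epi_g := (inferInstance : Epi (cokernel.π (idlι x 𝔞))) }
  haveI : (ShortComplex.mk (idlι x 𝔞) (cokernel.π (idlι x 𝔞))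
      (cokernel.condition (idlι x 𝔞))).X₁.IsQuasicoherent := qc_idl x 𝔞
  haveI : (ShortComplex.mk (idlι x 𝔞) (cokernel.π (idlι x 𝔞))
      (cokernel.condition (idlι x 𝔞))).X₂.IsQuasicoherent := qc_structureModule X
  obtain ⟨e⟩ := XS.nonempty_cokernel_iso hS (KRRUnit.isFinLocFree_structureModule X) F
  have hz' : IsZero (cokernel (preHom (idlι x 𝔞) F)) := IsZero.of_iso hz e
  exact Preadditive.epi_of_isZero_cokernel _ hz'

end Sheaf

/-- **S11163**. -/
theorem s11163 [IsLocallyNoetherian X] [HasInjectiveResolutions X.Modules] (F : X.Modules)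
    (hF : Coh.IsQCoh F) :
    Injective F ↔ ∀ (G : X.Modules) [DCoh.HasSheafHom G] [(DCoh.sheafHom G).Additive],
      Coh.IsCoh G → IsZero (((DCoh.sheafHom G).rightDerived 1).obj F) := by
  constructor
  · intro hI G _ _ _
    haveI := hI
    exact Functor.isZero_rightDerived_obj_injective_succ _ 0 F
  · intro h
    haveI : HasInjectiveResolutions (ModSite.Mod X.sheaf) :=
      (inferInstance : HasInjectiveResolutions X.Modules)
    apply QcInj.injective_of_stalks F hF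
    intro x
    apply baer_stalk F x
    intro 𝔞
    apply epi_preHom_of_isZero x 𝔞 F
    suffices hmain : ∀ G₀ : X.Modules, Coh.IsCoh G₀ →
        IsZero ((ModSite.extSh (O := X.sheaf) G₀ 1).obj F) from hmain _ (isCoh_coker x 𝔞)
    intro G₀ hcoh
    haveI := hcoh.1
    haveI : DCoh.HasSheafHom G₀ := Groth.Agent.H5.ExtG1.hasSheafHom_of_qc G₀
    haveI : ModSite.HasSheafHom (O := X.sheaf) G₀ := MS.hasSheafHom _
    obtain ⟨Φ', hΦ'⟩ : ∃ Φ' : X.Modules ⥤ X.Modules,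
        Φ' = ModSite.sheafHom (O := X.sheaf) G₀ := ⟨_, rfl⟩
    haveI : Φ'.Additive := by
      rw [hΦ']
      exact ModSite.sheafHom_additive X.sheaf _
    have e0 : Φ' ≅ DCoh.sheafHom G₀ := by
      rw [hΦ']
      exact EZ.sheafHomDCohIso G₀
    haveI : (DCoh.sheafHom G₀).Additive := Functor.additive_of_iso e0
    have hz := h G₀ hcoh
    have hz' : IsZero ((Φ'.rightDerived 1).obj F) :=
      IsZero.of_iso hz ((_root_.RDer.rightDerivedIso e0 1).app F)
    subst hΦ'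
    exact hz'

end Groth.Agent.LD.ExtCrit
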