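import Mathlib
import Groth.Agent.Lib.Lead.Inj.HullB
import Groth.Agent.Lib.Lead.EZ.ExtZSupp
import Groth.Agent.Lib.Lead.EZ.SectRestr
import Groth.Agent.Lib.Lead.HZF.Shift
import Groth.Agent.Lib.Lead.XS.Shift
import Groth.Agent.Lib.Helper2.HomSh3
import Groth.Agent.Lib.Helper2.RDer7
import Groth.Agent.Lib.Helper8.RelTilde.Zero
import Groth.Agent.Lib.Lead.QC.Closure
import Groth.Agent.Lib.Lead.QC.Push
import Groth.Agent.Lib.Lead.QC.Coh
import Groth.Agent.Lib.Lead.QC.Affine
import Groth.Agent.Lib.Lead.QC.SubExtRestrict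

/-!
# The local Ext sheaves with supports `ℰxt^i_Z(F, G)` are quasi-coherent (S12879)

`X` locally Noetherian, `F` coherent, `G` quasi-coherent.  We use that every quasi-coherent module
embeds into a quasi-coherent injective `O_X`-module (`HullB.exists_qcoh_injective`), dimension
shifting, and the quasi-coherence of `Γ_Z` and `ℋom(F, -)` of quasi-coherent modules.
-/

set_option autoImplicit false
universe u
open CategoryTheory CategoryTheory.Limits AlgebraicGeometry TopologicalSpace Opposite

namespace Groth.Agent.LD.ExtZQc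

open Groth.Agent.LD

section General

/-- a morphism out of an object killed by the left adjoint dies in the unit. -/
lemma comp_unit_eq_zero_of_isZero {A B : Type*} [Category A] [Category B]
    [HasZeroMorphisms A] [HasZeroMorphisms B]
    {F : A ⥤ B} {G : B ⥤ A} (adj : F ⊣ G) {S P : A} (s : S ⟶ P) (hz : IsZero (F.obj S)) :
    s ≫ adj.unit.app P = 0 := by
  apply (adj.homEquiv S (F.obj P)).symm.injective
  exact hz.eq_of_src _ _

/-- in an exact sequence `X ⟶ Y ⟶ Z` with `Y ⟶ Z` epi, `Z` is the cokernel. -/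
lemma nonempty_cokernel_iso_of_exact {A : Type*} [Category A] [Abelian A] {X Y Z : A}
    (f : X ⟶ Y) (g : Y ⟶ Z) (w : f ≫ g = 0)
    (hex : (ShortComplex.mk f g w).Exact) (hg : Epi g) : Nonempty (cokernel f ≅ Z) := by
  haveI : Epi (ShortComplex.mk f g w).g := hg
  exact ⟨IsColimit.coconePointUniqueUpToIso (cokernelIsCokernel f) hex.gIsCokernel⟩

/-- two subobjects factoring through each other are isomorphic. -/
lemma nonempty_iso_of_factor {𝒜 : Type*} [Category 𝒜] {S K P : 𝒜} (s : S ⟶ P) (k : K ⟶ P)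
    (hs : Mono s) (hk : Mono k) (a : S ⟶ K) (ha : a ≫ k = s) (b : K ⟶ S) (hb : b ≫ s = k) :
    Nonempty (K ≅ S) := by
  refine ⟨⟨b, a, ?_, ?_⟩⟩
  · rw [← cancel_mono k, Category.assoc, ha, hb, Category.id_comp]
  · rw [← cancel_mono s, Category.assoc, hb, ha, Category.id_comp]

/-- in an exact sequence `X ⟶ Y ⟶ Z` with `Z = 0`, the first map is epi. -/
lemma epi_of_exact_of_isZero {A : Type*} [Category A] [Abelian A] {X Y Z : A}
    (f : X ⟶ Y) (g : Y ⟶ Z) (w : f ≫ g = 0)
    (hex : (ShortComplex.mk f g w).Exact) (hZ : IsZero Z) : Epi f :=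
  hex.epi_f (hZ.eq_of_tgt _ _)

end General

variable {X : Scheme.{u}} (U : X.Opens)

/-- a module null on `U` restricts to zero on the open subscheme `U`. -/
lemma isZero_restrict_of_isNullOn (S : X.Modules) (hS : ModSite.IsNullOn X.sheaf U S) :
    IsZero ((Scheme.Modules.restrictFunctor U.ι).obj S) := by
  apply Groth.Agent.H8.RelTilde.isZero_of_subsingleton
  intro W
  have hle : U.ι ''ᵁ W ≤ U := U.ι_image_le W
  have h := EZ.subsingleton_of_isNullOn X.sheaf U S hS (Over.mk (homOfLE hle))
  exact ⟨fun a b => h.elim a b⟩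

/-- the kernel of `P ⟶ j_* j^* P` is null on `U`. -/
lemma isNullOn_kernel_unit (P : X.Modules) :
    ModSite.IsNullOn X.sheaf U
      (kernel ((Scheme.Modules.restrictAdjunction U.ι).unit.app P)) := by
  obtain ⟨η, hη⟩ : ∃ η : P ⟶ (Scheme.Modules.pushforward U.ι).obj
      ((Scheme.Modules.restrictFunctor U.ι).obj P),
      η = (Scheme.Modules.restrictAdjunction U.ι).unit.app P := ⟨_, rfl⟩
  rw [← hη]
  apply EZ.isNullOn_of_subsingleton
  intro Y
  have hYU : Y.left ≤ U := leOfHom Y.hom
  have heq : U.ι ''ᵁ (U.ι ⁻¹ᵁ Y.left) = Y.left := by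
    rw [Scheme.Hom.image_preimage_eq_opensRange_inf, Scheme.Opens.opensRange_ι]
    exact inf_eq_right.mpr hYU
  have hinj : Function.Injective ((kernel.ι η).app Y.left) := QC.mono_app (kernel.ι η) Y.left
  have key : ∀ c : Γ(kernel η, Y.left), c = 0 := by
    intro c
    apply hinj
    rw [map_zero]
    have h1 : η.app Y.left ((kernel.ι η).app Y.left c) = 0 :=
      (QC.mem_range_kernel_ι_iff η Y.left _).mp ⟨c, rfl⟩
    have h2 : η.app Y.left = P.presheaf.map (homOfLE (U.ι.image_preimage_le Y.left)).op := by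
      rw [hη]; rfl
    rw [h2] at h1
    apply QC.res_injective_of_le_of_le P (U.ι.image_preimage_le Y.left) heq.ge
    exact h1.trans (map_zero _).symm
  exact ⟨fun a b => (key a).trans (key b).symm⟩

variable [IsLocallyNoetherian X]

/-- **sections with supports in a closed subset of a quasi-coherent module on a locally Noetherian
scheme form a quasi-coherent module.** -/
theorem qc_sectOn (P : X.Modules) (hP : P.IsQuasicoherent) :
    ((ModSite.sectOn X.sheaf U).obj P).IsQuasicoherent := by
  haveI := hP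
  obtain ⟨η, hη⟩ : ∃ η : P ⟶ (Scheme.Modules.pushforward U.ι).obj
      ((Scheme.Modules.restrictFunctor U.ι).obj P),
      η = (Scheme.Modules.restrictAdjunction U.ι).unit.app P := ⟨_, rfl⟩
  haveI hR : ((Scheme.Modules.restrictFunctor U.ι).obj P).IsQuasicoherent :=
    QC.qc_restrict U.ι P
  have hPR : ((Scheme.Modules.pushforward U.ι).obj
      ((Scheme.Modules.restrictFunctor U.ι).obj P)).IsQuasicoherent :=
    QC.qc_pushforward U.ι _
  have hK : (kernel η).IsQuasicoherent := QC.qc_kernel η hP hPR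
  have hS0 : ModSite.IsNullOn X.sheaf U ((ModSite.sectOn X.sheaf U).obj P) :=
    EZ.isNullOn_sectOn X.sheaf U P
  have hK0 : ModSite.IsNullOn X.sheaf U (kernel η) := by
    rw [hη]; exact isNullOn_kernel_unit U P
  have hzS := isZero_restrict_of_isNullOn U _ hS0
  have w1 : EZ.iotaU X.sheaf U P ≫ η = 0 := by
    rw [hη]
    exact comp_unit_eq_zero_of_isZero (Scheme.Modules.restrictAdjunction U.ι) _ hzS
  have w2 := (EZ.comp_unit_eq_zero_iff X.sheaf U (M := kernel η) (N := P) (kernel.ι η)).2
    (hK0.eq_of_src _ _)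
  have hkm : Mono (kernel.ι η) := inferInstance
  obtain ⟨e⟩ := nonempty_iso_of_factor (𝒜 := X.Modules) (EZ.iotaU X.sheaf U P) (kernel.ι η)
    (inferInstanceAs (Mono (kernel.ι ((ModSite.restrPushOverAdj X.sheaf U).unit.app P))))
    hkm (kernel.lift η _ w1) (kernel.lift_ι _ _ _)
    (EZ.toSect X.sheaf U (kernel.ι η) w2) (EZ.toSect_iotaU X.sheaf U _ _)
  exact QC.qc_of_iso e hK

/-- **S12879**: the local Ext sheaves with supports of a coherent module and a quasi-coherent module
on a locally Noetherian scheme are quasi-coherent. -/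
theorem qc_extZSh (F : X.Modules) (hF : Coh.IsCoh F)
    [ModSite.HasSheafHom (O := X.sheaf) F] [HasInjectiveResolutions (ModSite.Mod X.sheaf)] :
    ∀ (i : ℕ) (G : X.Modules), G.IsQuasicoherent →
      ((ModSite.extZSh (O := X.sheaf) U F i).obj G).IsQuasicoherent := by
  haveI := hF.1
  have hFfp : F.IsFinitePresentation := QC.isFinitePresentation_of_qc_ft F hF.1 hF.2
  haveI : PreservesFiniteLimits (ModSite.sectOn X.sheaf U) :=
    HZF.preservesFiniteLimits_sectOn X.sheaf U
  haveI : PreservesFiniteLimits (ModSite.sheafHom (O := X.sheaf) F) :=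
    XS.sheafHom_preservesFiniteLimits F
  haveI : PreservesFiniteLimits
      (ModSite.sheafHom (O := X.sheaf) F ⋙ ModSite.sectOn X.sheaf U) :=
    comp_preservesFiniteLimits _ _
  have hT0 : ∀ G : X.Modules, G.IsQuasicoherent →
      ((ModSite.sheafHom (O := X.sheaf) F ⋙ ModSite.sectOn X.sheaf U).obj G).IsQuasicoherent := by
    intro G hG
    haveI := hG
    have h1 : (RefHull.homSh F G).IsQuasicoherent := Groth.Agent.H2.HomSh.qc_homSh hFfp
    have h2 : ((ModSite.sheafHom (O := X.sheaf) F).obj G).IsQuasicoherent :=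
      QC.qc_of_iso ((XS.homIso F).app G).symm h1
    exact qc_sectOn U _ h2
  intro i
  induction i with
  | zero =>
    intro G hG
    have e0 := (Functor.rightDerivedZeroIsoSelf
      (ModSite.sheafHom (O := X.sheaf) F ⋙ ModSite.sectOn X.sheaf U)).app G
    exact QC.qc_of_iso e0.symm (hT0 G hG)
  | succ i ih =>
    intro G hG
    obtain ⟨E, ι, hι, hE, hEq⟩ := HullB.exists_qcoh_injective G hG
    haveI := hι
    haveI : @Injective (ModSite.Mod X.sheaf) _ E := hE
    have hQ : (cokernel ι).IsQuasicoherent := QC.qc_cokernel ι hG hEq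
    have hS : (ShortComplex.mk ι (cokernel.π ι) (cokernel.condition ι)).ShortExact :=
      { exact := ShortComplex.exact_of_g_is_cokernel _ (cokernelIsCokernel ι)
        mono_f := hι
        epi_g := inferInstanceAs (Epi (cokernel.π ι)) }
    have hz : IsZero (((ModSite.sheafHom (O := X.sheaf) F ⋙
        ModSite.sectOn X.sheaf U).rightDerived (i + 1)).obj E) :=
      Functor.isZero_rightDerived_obj_injective_succ
        (ModSite.sheafHom (O := X.sheaf) F ⋙ ModSite.sectOn X.sheaf U) i E
    have ex3 := Groth.Agent.H2.RDer.LES.exact₃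
      (ModSite.sheafHom (O := X.sheaf) F ⋙ ModSite.sectOn X.sheaf U) hS i
    have ex1 := Groth.Agent.H2.RDer.LES.exact₁
      (ModSite.sheafHom (O := X.sheaf) F ⋙ ModSite.sectOn X.sheaf U) hS i
    have hepi := epi_of_exact_of_isZero _ _ _ ex1 hz
    obtain ⟨e⟩ := nonempty_cokernel_iso_of_exact _ _ _ ex3 hepi
    exact QC.qc_of_iso e (QC.qc_cokernel _ (ih E hEq) (ih (cokernel ι) hQ))

/-- **S12879**, statement form. -/
theorem s12879 (X : Scheme.{u}) [IsLocallyNoetherian X] (U : X.Opens)
    (F G : X.Modules) (hF : Coh.IsCoh F) (hG : Coh.IsQCoh G)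
    [ModSite.HasSheafHom (O := X.sheaf) F] [HasInjectiveResolutions (ModSite.Mod X.sheaf)] (i : ℕ) :
    Coh.IsQCoh ((ModSite.extZSh (O := X.sheaf) U F i).obj G) :=
  qc_extZSh U F hF i G hG

end Groth.Agent.LD.ExtZQc
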