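import Mathlib
import Groth.Agent.Lib.Lead.Inj.HullB
import Groth.Agent.Lib.Lead.QCQS.RestrictOI

/-!
# `Γ_Z` of an injective `O_X`-module is injective

For an open immersion `j : U ⟶ X` and an injective `O_X`-module `I`, the kernel of
`I ⟶ j_* j^* I` is injective: its maximal essential extension inside `I` restricts to zero on `U`
(restriction to an open preserves essential monomorphisms), hence is contained in the kernel.
-/

set_option autoImplicit false
universe u
open CategoryTheory CategoryTheory.Limits AlgebraicGeometry TopologicalSpace Opposite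
open ZeroObject

namespace Groth.Agent.LD.GammaZInj

open Groth.Agent.LD

variable {U X : Scheme.{u}} (j : U ⟶ X) [IsOpenImmersion j]

/-- the kernel of the unit `P ⟶ j_* j^* P` restricts to zero on `U`. -/
lemma isZero_restrict_kernel_unit (P : X.Modules) :
    IsZero ((Scheme.Modules.restrictFunctor j).obj
      (kernel ((Scheme.Modules.restrictAdjunction j).unit.app P))) := by
  obtain ⟨η, hη⟩ : ∃ η : P ⟶ (Scheme.Modules.pushforward j).obj
      ((Scheme.Modules.restrictFunctor j).obj P),
      η = (Scheme.Modules.restrictAdjunction j).unit.app P := ⟨_, rfl⟩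
  rw [← hη]
  haveI := QCQS.restrictFunctor_additive' j
  haveI := QCQS.restrictFunctor_preservesFiniteLimits' j
  haveI : (Scheme.Modules.restrictFunctor j).PreservesMonomorphisms :=
    preservesMonomorphisms_of_preservesLimitsOfShape _
  haveI : Mono ((Scheme.Modules.restrictFunctor j).map (kernel.ι η)) := Functor.map_mono _ _
  have hsplit : (Scheme.Modules.restrictFunctor j).map η ≫
      (Scheme.Modules.restrictAdjunction j).counit.app
        ((Scheme.Modules.restrictFunctor j).obj P) = 𝟙 _ := by
    rw [hη]
    exact (Scheme.Modules.restrictAdjunction j).left_triangle_components P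
  have h1 : (Scheme.Modules.restrictFunctor j).map (kernel.ι η) ≫
      (Scheme.Modules.restrictFunctor j).map η = 0 := by
    rw [← Functor.map_comp, kernel.condition, Functor.map_zero]
  have h0 : (Scheme.Modules.restrictFunctor j).map (kernel.ι η) = 0 := by
    calc (Scheme.Modules.restrictFunctor j).map (kernel.ι η)
        = (Scheme.Modules.restrictFunctor j).map (kernel.ι η) ≫ 𝟙 _ := (Category.comp_id _).symm
      _ = 0 := by rw [← hsplit, ← Category.assoc, h1, zero_comp]
  exact IsZero.of_mono_eq_zero _ h0

/-- **`Γ_Z(I)` is injective for injective `I`.** -/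
theorem injective_kernel_unit (I : X.Modules) [Injective I] :
    Injective (kernel ((Scheme.Modules.restrictAdjunction j).unit.app I)) := by
  haveI : IsGrothendieckAbelian.{u} X.Modules :=
    Groth.Agent.H1.sheafOfModules_isGrothendieckAbelian
      (Opens.grothendieckTopology X) X.ringCatSheaf
  haveI : ∀ x : X, PreservesColimitsOfSize.{u, u} (DerSch.stalkFunctor X x) := fun x =>
    (Groth.Agent.H4.SPt4.stalkSkyAdj x).leftAdjoint_preservesColimits
  have hf : Decomp.JointlyFaithful (fun x : X => DerSch.stalkFunctor X x) :=
    fun A B χ h => FF.eq_zero_of_stalk χ h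
  have hK0 := isZero_restrict_kernel_unit j I
  obtain ⟨η, hη⟩ : ∃ η : I ⟶ (Scheme.Modules.pushforward j).obj
      ((Scheme.Modules.restrictFunctor j).obj I),
      η = (Scheme.Modules.restrictAdjunction j).unit.app I := ⟨_, rfl⟩
  rw [← hη] at hK0 ⊢
  obtain ⟨E, hE⟩ := Decomp.exists_maximal_essential hf (kernel.ι η)
  haveI hinj : Injective (E : X.Modules) :=
    Decomp.injective_of_maximal_essential hf (kernel.ι η) E hE
  obtain ⟨⟨bE, hbE, hess⟩, -⟩ := hE
  haveI : Mono bE := mono_of_mono_fac hbE
  have hess' := HullB.essential_restrict j bE hess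
  have hE0 : IsZero ((Scheme.Modules.restrictFunctor j).obj (E : X.Modules)) := by
    have hm : Mono ((Scheme.Modules.restrictFunctor j).map bE ≫
        (0 : (Scheme.Modules.restrictFunctor j).obj (E : X.Modules) ⟶ 0)) := by
      constructor
      intro Z a b _
      exact hK0.eq_of_tgt _ _
    haveI := hess' _ hm
    exact IsZero.of_mono_eq_zero
      (0 : (Scheme.Modules.restrictFunctor j).obj (E : X.Modules) ⟶ 0) rfl
  have h0 : E.arrow ≫ η = 0 := by
    rw [hη]
    apply ((Scheme.Modules.restrictAdjunction j).homEquiv _ _).symm.injective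
    exact hE0.eq_of_src _ _
  have hiso : Nonempty ((E : X.Modules) ≅ kernel η) := by
    refine ⟨⟨kernel.lift η E.arrow h0, bE, ?_, ?_⟩⟩
    · rw [← cancel_mono E.arrow, Category.assoc, hbE, kernel.lift_ι, Category.id_comp]
    · rw [← cancel_mono (kernel.ι η), Category.assoc, kernel.lift_ι, hbE, Category.id_comp]
  exact Injective.of_iso hiso.some hinj

end Groth.Agent.LD.GammaZInj
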