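import Mathlib
import Groth.Agent.Lib.Lead.SS.WayOut
import Groth.Agent.Lib.Lead.Inj.ExtZQc
import Groth.Agent.Lib.Lead.QCQS.LocCoh
import Groth.Agent.Lib.Lead.QCQS.RestrictOI
import Groth.Agent.Lib.Lead.QC.SpecHom
import Groth.Agent.Lib.Lead.QC.SuppPullback
import Groth.Agent.Lib.Lead.QC.Ext
import Groth.Agent.Lib.Lead.CechExt.Bot
import Groth.Agent.H4.PCS5
import Groth.Agent.H4.K0Coh

/-!
# `RΓ_Z` preserves `D⁺_QCoh` and its cohomology sheaves are supported on `Z` (S1046)

`U ⊆ X` a retrocompact open, `Z = X ∖ U`.  The quasi-coherent modules vanishing on `U` form a weak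
Serre class; the local cohomology sheaves `ℋ^q_Z(G)` of a quasi-coherent module `G` belong to it;
the way-out lemma transfers this to `D⁺_QCoh`.
-/

set_option autoImplicit false
universe u
open CategoryTheory CategoryTheory.Limits AlgebraicGeometry

attribute [local instance] HasDerivedCategory.standard

namespace Groth.Agent.LD.RGammaQc

open Groth.Agent.LD

variable {X : Scheme.{u}} (U : X.Opens)

/-- quasi-coherent modules vanishing on `U`. -/
def PU (M : X.Modules) : Prop :=
  M.IsQuasicoherent ∧ IsZero ((Scheme.Modules.restrictFunctor U.ι).obj M)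

/-- quasi-coherent modules vanishing on an open form a weak Serre class. -/
theorem isWeakSerre_PU : SS.IsWeakSerre (C := X.Modules) (PU U) where
  iso := fun e h => ⟨QC.qc_of_iso e h.1,
    IsZero.of_iso h.2 ((Scheme.Modules.restrictFunctor U.ι).mapIso e.symm)⟩
  zero := fun hz => ⟨(Groth.Agent.H4.K0Coh.isCoh_of_isZero hz).1,
    Functor.map_isZero (Scheme.Modules.restrictFunctor U.ι) hz⟩
  homology := fun S h1 h2 h3 => ⟨Groth.Agent.H4.PCS5.qc_homology S h1.1 h2.1 h3.1,
    IsZero.of_iso (ShortComplex.isZero_homology_of_isZero_X₂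
      (S.map (Scheme.Modules.restrictFunctor U.ι)) h2.2)
      (S.mapHomologyIso (Scheme.Modules.restrictFunctor U.ι)).symm⟩
  ext := fun S hS h1 h3 => ⟨QC.qc_of_shortExact S hS h1.1 h3.1,
    (hS.map_of_exact (Scheme.Modules.restrictFunctor U.ι)).exact.isZero_X₂
      (h1.2.eq_of_src _ _) (h3.2.eq_of_tgt _ _)⟩

/-- `Γ_Z(M)` vanishes on `U`. -/
lemma isZero_restrict_gammaZ (M : X.Modules) :
    IsZero ((DCoh.gammaZ U.ι ⋙ Scheme.Modules.restrictFunctor U.ι).obj M) :=
  ExtZQc.isZero_restrict_of_isNullOn U _ (ExtZQc.isNullOn_kernel_unit U M)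

/-- the local cohomology sheaves vanish on `U`. -/
lemma isZero_restrict_HZshM [HasInjectiveResolutions X.Modules] (G : X.Modules) (q : ℕ) :
    IsZero ((Scheme.Modules.restrictFunctor U.ι).obj
      (((DCoh.gammaZ U.ι).rightDerived q).obj G)) := by
  have e := CE.rightDerivedObjCompIso (DCoh.gammaZ U.ι) (Scheme.Modules.restrictFunctor U.ι) G q
  exact IsZero.of_iso (WayOut.isZero_rightDerived_of_isZero_obj
    (DCoh.gammaZ U.ι ⋙ Scheme.Modules.restrictFunctor U.ι) (isZero_restrict_gammaZ U) G q) e.symm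

/-- the local cohomology sheaves of a quasi-coherent module are quasi-coherent and vanish on
`U`. -/
lemma pu_HZshM [QuasiCompact U.ι] [HasInjectiveResolutions X.Modules] (G : X.Modules)
    (hG : G.IsQuasicoherent) (q : ℕ) : PU U (((DCoh.gammaZ U.ι).rightDerived q).obj G) :=
  ⟨QCQS.qc_HZshM U.ι G hG q, isZero_restrict_HZshM U G q⟩

/-- a module vanishing on `U` is supported on the complement. -/
lemma support_subset_compl (M : X.Modules)
    (hM : IsZero ((Scheme.Modules.restrictFunctor U.ι).obj M)) :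
    CohB1.support M ⊆ (U : Set X)ᶜ := by
  intro x hx hxU
  apply hx
  have h0 := QC.subsingleton_stalk_of_isZero _ hM (⟨x, hxU⟩ : U)
  exact (QC.subsingleton_stalk_restrict_iff U.ι M ⟨x, hxU⟩).1 h0

/-- **S1046.** -/
theorem s1046 (X : Scheme.{u}) (U : X.Opens) [QuasiCompact U.ι] [EnoughInjectives X.Modules]
    (E : DerivedCategory.Plus X.Modules) (hE : DCoh.IsQCohD E.obj) :
    DCoh.IsQCohD ((DCoh.RgammaZPlus U.ι).obj E).obj ∧
    ∀ i : ℤ, CohB1.support (DCoh.HD ((DCoh.RgammaZPlus U.ι).obj E).obj i) ⊆ (U : Set X)ᶜ := by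
  have h : ∀ m : ℤ, PU U ((DerivedCategory.homologyFunctor X.Modules m).obj
      ((DCoh.gammaZ U.ι).rightDerivedFunctorPlus.obj E).obj) := fun m =>
    WayOut.prop_homology_rightDerivedFunctorPlus (DCoh.gammaZ U.ι)
      (PC := fun M : X.Modules => M.IsQuasicoherent) (isWeakSerre_PU U)
      (fun e h => QC.qc_of_iso e h) (fun G hG q => pu_HZshM U G hG q) E hE m
  exact ⟨fun i => (h i).1, fun i => support_subset_compl U _ (h i).2⟩

end Groth.Agent.LD.RGammaQc
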