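import Mathlib
import Groth.Agent.Lib.Lead.Inj.RHomOQc
import Groth.Agent.Lib.Lead.SS.WeakSerre
import Groth.Agent.Lib.Lead.SS.Abut
import Groth.Agent.Lib.Lead.EZ.ExtZSupp
import Groth.Agent.Lib.Lead.CechExt.Bot
import Groth.Agent.Lib.Lead.DF.Push
import Groth.Agent.Lib.Helper1.RegNear2
import Groth.Agent.Lib.Helper2.GSSGen5
import Groth.Agent.H4.K0Coh
import Groth.Agent.H4.PSch4
import Groth.Agent.H4.FlatPull2

/-!
# `R Hom(O_Z, -)` preserves coherence of cohomology on `D⁺` (S3633)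

For a closed immersion `i : Z ⟶ X` with `X` locally Noetherian: the derived functors of `i^♭` send
coherent modules to coherent modules (they are `ℰxt^q(i_* O_Z, -)`), and the hypercohomology
spectral sequence `E₂^{p,q} = R^p i^♭ (H^q K) ⇒ H^{p+q}(R i^♭ K)` transfers coherence.
-/

set_option autoImplicit false
universe u
open CategoryTheory CategoryTheory.Limits AlgebraicGeometry

attribute [local instance] HasDerivedCategory.standard

namespace Groth.Agent.LD.RHomOCoh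

open Groth.Agent.LD Groth.Agent.H2.GSSGen Groth.Agent.H2.RDer

/-- coherent modules on a locally Noetherian scheme form a weak Serre class. -/
theorem isWeakSerre_coh (Z : Scheme.{u}) [IsLocallyNoetherian Z] :
    SS.IsWeakSerre (C := Z.Modules) (fun M => Coh.IsCoh M) where
  iso := fun e h => Groth.Agent.H4.PSch4.isCoh_of_iso e h
  zero := fun hz => Groth.Agent.H4.K0Coh.isCoh_of_isZero hz
  homology := fun S h1 h2 h3 => Groth.Agent.H4.PSch4.isCoh_homology S h1.1 h2 h3.1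
  ext := fun S hS h1 h3 => DF.isCoh_of_shortExact S hS h1 h3

variable {Z X : Scheme.{u}} (i : Z ⟶ X) [IsClosedImmersion i]

/-- `Hom_Z(O_Z, i^♭ -) ≅ i^♭`. -/
noncomputable def TfUnitIso :
    CI.Tf i (Coh.structureModule Z) ≅ CI.flat i :=
  haveI : ModSite.HasSheafHom (O := Z.sheaf) (ModSite.unit Z.sheaf) := MS.hasSheafHom _
  (show CI.Tf i (Coh.structureModule Z) ≅ CI.flat i ⋙ 𝟭 _ from
    Functor.isoWhiskerLeft (CI.flat i) (RHomOQc.sheafHomUnitIso Z.sheaf)) ≪≫
    Functor.rightUnitor _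

/-- **the right derived functors of `i^♭` preserve coherence** (`X` locally Noetherian). -/
theorem isCoh_rightDerived_flat [IsLocallyNoetherian X] [EnoughInjectives X.Modules]
    (G : X.Modules) (hG : Coh.IsCoh G) (q : ℕ) :
    Coh.IsCoh (((CI.flat i).rightDerived q).obj G) := by
  haveI : HasInjectiveResolutions (ModSite.Mod X.sheaf) :=
    (inferInstance : HasInjectiveResolutions X.Modules)
  have hAc : Coh.IsCoh (Coh.structureModule Z) := Groth.Agent.H2.HomSh.isCoh_structureModule Z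
  have hPc : Coh.IsCoh ((Scheme.Modules.pushforward i).obj (Coh.structureModule Z)) :=
    DF.isCoh_push i _ hAc
  haveI : ModSite.HasSheafHom (O := X.sheaf)
      ((Scheme.Modules.pushforward i).obj (Coh.structureModule Z)) := MS.hasSheafHom _
  haveI := CI.additive_Tf_push i (Coh.structureModule Z)
  obtain ⟨N, hN⟩ : ∃ N : Z.Modules,
      N = ((CI.Tf i (Coh.structureModule Z)).rightDerived q).obj G := ⟨_, rfl⟩
  -- `i_* R^q Tf G ≅ ℰxt^q(i_* O_Z, G)`
  obtain ⟨Φ', hΦ'⟩ : ∃ Φ' : X.Modules ⥤ X.Modules, Φ' = ModSite.sheafHom (O := X.sheaf)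
      ((Scheme.Modules.pushforward i).obj (Coh.structureModule Z)) := ⟨_, rfl⟩
  haveI : Φ'.Additive := by
    rw [hΦ']
    exact ModSite.sheafHom_additive X.sheaf _
  have e0 : Φ' ≅ CI.Tf i (Coh.structureModule Z) ⋙ Scheme.Modules.pushforward i := by
    rw [hΦ']
    exact CI.sheafHomPushIso i (Coh.structureModule Z)
  have hΦc : Coh.IsCoh ((Φ'.rightDerived q).obj G) := by
    subst hΦ'
    exact EZ.isCoh_extSh_of_isLocallyNoetherian X _ G hPc hG q
  have ePush : (Scheme.Modules.pushforward i).obj N ≅ (Φ'.rightDerived q).obj G := by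
    rw [hN]
    exact (CE.rightDerivedObjCompIso (CI.Tf i (Coh.structureModule Z))
      (Scheme.Modules.pushforward i) G q).symm ≪≫
      ((_root_.RDer.rightDerivedIso e0 q).app G).symm
  have h1 : Coh.IsCoh ((Scheme.Modules.pushforward i).obj N) :=
    Groth.Agent.H4.PSch4.isCoh_of_iso ePush.symm hΦc
  have h2 := Groth.Agent.H4.FlatPull2.isCoh_pullback i _ h1
  haveI := CI.isIso_counit i N
  have h3 : Coh.IsCoh N :=
    Groth.Agent.H4.PSch4.isCoh_of_iso
      (asIso ((Scheme.Modules.pullbackPushforwardAdjunction i).counit.app N)) h2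
  rw [hN] at h3
  exact Groth.Agent.H4.PSch4.isCoh_of_iso
    ((_root_.RDer.rightDerivedIso (TfUnitIso i) q).app G) h3

/-- **S3633.** -/
theorem s3633 (Z X : Scheme.{u}) [IsLocallyNoetherian X] (i : Z ⟶ X) [IsClosedImmersion i]
    [Dual3.HasHomO i] [EnoughInjectives X.Modules] (K : DerivedCategory.Plus X.Modules)
    (hK : DCoh.IsCohD K.obj) : DCoh.IsCohD ((Dual3.RHomOPlus i).obj K).obj := by
  haveI : IsLocallyNoetherian Z := Groth.Agent.H1.RegNear.isLocallyNoetherian_of_isClosedImmersion i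
  have hWS := isWeakSerre_coh Z
  have hR : ∀ (G : X.Modules), Coh.IsCoh G → ∀ q : ℕ,
      Coh.IsCoh (((Dual3.homO i).rightDerived q).obj G) :=
    fun G hG q => isCoh_rightDerived_flat i G hG q
  obtain ⟨n, hn⟩ := K.property
  haveI : K.IsGE n := (DerivedCategory.Plus.isGE_ι_obj_iff K n).1 hn
  obtain ⟨J₀, hJ₀, hinj₀, ⟨e⟩⟩ := exists_rep_of_isGE K n
  haveI := hJ₀
  haveI := hinj₀
  -- the shifted object, in `D^{≥ 0}`
  obtain ⟨Xs, hXs⟩ : ∃ Xs : DerivedCategory.Plus X.Modules, Xs = K⟦n⟧ := ⟨_, rfl⟩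
  haveI : Xs.IsGE 0 := by
    rw [hXs]
    exact DerivedCategory.Plus.TStructure.t.isGE_shift K n n 0 (by omega)
  have hpage : ∀ pq : ℤ × ℤ, Coh.IsCoh
      (((spec (Dual3.homO i) Xs).E₂SpectralSequence.page 2 le_rfl).X pq) := by
    rintro ⟨p, q⟩
    by_cases hp : p < 0
    · exact Groth.Agent.H4.K0Coh.isCoh_of_isZero
        (GSS.isZero_page_of_fst_neg _ 2 le_rfl (p, q) hp)
    by_cases hq : q < 0
    · exact Groth.Agent.H4.K0Coh.isCoh_of_isZero
        (GSS.isZero_page_of_snd_neg _ 2 le_rfl (p, q) hq)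
    obtain ⟨k, rfl⟩ := Int.eq_ofNat_of_zero_le (not_lt.1 hp)
    have e1 := GSS.page2Iso (spec (Dual3.homO i) Xs) (k : ℤ) q
    obtain ⟨e2⟩ := nonempty_E₂_iso (Dual3.homO i) Xs q k ((k : ℤ) + q) rfl
    have e3 : (HP q).obj Xs ≅ (HP (n + q)).obj K := by
      subst hXs
      exact ((HP (C := X.Modules) 0).shiftIso n q (n + q) rfl).app K
    have hc : Coh.IsCoh ((HP q).obj Xs) :=
      Groth.Agent.H4.PSch4.isCoh_of_iso e3.symm (hK (n + q))
    exact Groth.Agent.H4.PSch4.isCoh_of_iso (e1 ≪≫ e2).symm (hR _ hc k)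
  intro m
  have hab := SS.prop_abutment (spec (Dual3.homO i) Xs).E₂SpectralSequence hWS hpage
    (GSS.abutment (spec (Dual3.homO i) Xs)) (m - n) (GSS.abutment_isFinite _ _)
  have e4 : K⟦m⟧ ≅ Xs⟦m - n⟧ := by
    subst hXs
    exact (shiftFunctorAdd' (DerivedCategory.Plus X.Modules) n (m - n) m (by omega)).app K
  have hΦ : Coh.IsCoh ((Φ (Dual3.homO i)).obj (K⟦m⟧)) :=
    Groth.Agent.H4.PSch4.isCoh_of_iso ((Φ (Dual3.homO i)).mapIso e4).symm hab
  -- back to the cohomology of `R i^♭ K`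
  have e5 := ((Dual3.RHomOPlus i ⋙ (DerivedCategory.Plus.ι (C := Z.Modules)) ⋙
    DerivedCategory.homologyFunctor Z.Modules m).mapIso e).symm
  have e6 := Groth.Agent.H2.RLong.θ (Dual3.homO i) m n n (𝟙 J₀)
  obtain ⟨e7⟩ := nonempty_Φ_shift_iso (Dual3.homO i) K J₀ n e m
  exact Groth.Agent.H4.PSch4.isCoh_of_iso (e7 ≪≫ e6.symm ≪≫ e5.symm) hΦ

end Groth.Agent.LD.RHomOCoh
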