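import Mathlib
import Groth.Agent.Lib.Lead.Inj.RHomOCoh
import Groth.Agent.Lib.Lead.XS.Cartier
import Groth.Agent.Lib.Lead.EZ.RegImmExt
import Groth.Agent.Lib.Lead.CI.Proj
import Groth.Agent.Lib.Lead.GS.TensorInv
import Groth.Agent.Lib.Helper2.GSSGen4

/-!
# `R Hom(O_D, O_X)` for an effective Cartier divisor (S3639)

For an effective Cartier divisor `i : D ⟶ X` with ideal `I` and `L ⊗ I ≅ O_X`:
`H^j (R Hom(O_D, O_X)) = 0` for `j ≠ 1` and `H^1 ≅ i^* L`.
-/

set_option autoImplicit false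
universe u
open CategoryTheory CategoryTheory.Limits AlgebraicGeometry

attribute [local instance] HasDerivedCategory.standard
attribute [-instance] Groth.Agent.LD.QC.stalkModule

namespace Groth.Agent.LD.RHomOCartier

open Groth.Agent.LD Groth.Agent.H2.GSSGen Groth.Agent.H2.RDer RingTheory.Sequence
open scoped ZeroObject

attribute [local instance] Groth.Agent.LD.MS.hasSheafHom

section Bridge

variable {Z X : Scheme.{u}} (i : Z ⟶ X) [Dual3.HasHomO i] [EnoughInjectives X.Modules]

/-- `H^0 (RF (K[m])) ≅ H^m (RF K)` for `F = Hom(O_Z, -)`. -/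
theorem nonempty_Φ_iso_HD (K : DerivedCategory.Plus X.Modules) (m : ℤ) :
    Nonempty ((Φ (Dual3.homO i)).obj (K⟦m⟧) ≅
      DCoh.HD ((Dual3.RHomOPlus i).obj K).obj m) := by
  obtain ⟨n, hn⟩ := K.property
  haveI : K.IsGE n := (DerivedCategory.Plus.isGE_ι_obj_iff K n).1 hn
  obtain ⟨J₀, hJ₀, hinj₀, ⟨e⟩⟩ := exists_rep_of_isGE K n
  haveI := hJ₀
  haveI := hinj₀
  have e5 := ((Dual3.RHomOPlus i ⋙ (DerivedCategory.Plus.ι (C := Z.Modules)) ⋙
    DerivedCategory.homologyFunctor Z.Modules m).mapIso e).symm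
  have e6 := Groth.Agent.H2.RLong.θ (Dual3.homO i) m n n (𝟙 J₀)
  obtain ⟨e7⟩ := nonempty_Φ_shift_iso (Dual3.homO i) K J₀ n e m
  exact ⟨e7 ≪≫ e6.symm ≪≫ e5.symm⟩

/-- the cohomology of `R Hom(O_Z, -)` on a module placed in degree zero. -/
theorem HD_of_single (O : DerivedCategory.Plus X.Modules) (M : X.Modules)
    (hO : Nonempty (O.obj ≅ DCoh.inD X M)) :
    (∀ j : ℤ, j < 0 → IsZero (DCoh.HD ((Dual3.RHomOPlus i).obj O).obj j)) ∧
      ∀ p : ℕ, Nonempty (DCoh.HD ((Dual3.RHomOPlus i).obj O).obj (p : ℤ) ≅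
        ((Dual3.homO i).rightDerived p).obj M) := by
  obtain ⟨eO⟩ := hO
  haveI h1 : (DerivedCategory.Plus.ι.obj O).IsGE 0 :=
    DerivedCategory.TStructure.t.isGE_of_iso eO.symm 0
  haveI h2 : (DerivedCategory.Plus.ι.obj O).IsLE 0 :=
    DerivedCategory.TStructure.t.isLE_of_iso eO.symm 0
  haveI hge : O.IsGE 0 := (DerivedCategory.Plus.isGE_ι_obj_iff O 0).1 h1
  haveI hle : O.IsLE 0 := (DerivedCategory.Plus.isLE_ι_obj_iff O 0).1 h2
  refine ⟨fun j hj => ?_, fun p => ?_⟩
  · obtain ⟨e⟩ := nonempty_Φ_iso_HD i O j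
    refine IsZero.of_iso ?_ e.symm
    haveI : (O⟦j⟧).IsGE (-j) :=
      DerivedCategory.Plus.TStructure.t.isGE_shift O 0 j (-j) (by omega)
    exact isZero_Φ_of_isGE (Dual3.homO i) (O⟦j⟧) (-j) (by omega)
  · obtain ⟨e⟩ := nonempty_Φ_iso_HD i O (p : ℤ)
    obtain ⟨e'⟩ := nonempty_Φ_shift_heart_iso (Dual3.homO i) O p
    have e0 : (DerivedCategory.Plus.homologyFunctor X.Modules 0).obj O ≅ M :=
      (DerivedCategory.homologyFunctor X.Modules 0).mapIso eO ≪≫
        (DerivedCategory.singleFunctorCompHomologyFunctorIso X.Modules 0).app M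
    exact ⟨e.symm ≪≫ e' ≪≫ ((Dual3.homO i).rightDerived p).mapIso e0⟩

end Bridge

section Flat

variable {Z X : Scheme.{u}} (i : Z ⟶ X) [IsClosedImmersion i] [EnoughInjectives X.Modules]

/-- the derived functors of `i^♭` through the local Ext sheaves of `i_* O_Z`. -/
theorem nonempty_rightDerived_flat_iso (G : X.Modules) (q : ℕ) (M : Z.Modules)
    (hM : haveI : HasInjectiveResolutions (ModSite.Mod X.sheaf) :=
        (inferInstance : HasInjectiveResolutions X.Modules)
      Nonempty ((Scheme.Modules.pushforward i).obj M ≅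
        (ModSite.extSh (O := X.sheaf)
          ((Scheme.Modules.pushforward i).obj (Coh.structureModule Z)) q).obj G)) :
    Nonempty (((CI.flat i).rightDerived q).obj G ≅ M) := by
  haveI : HasInjectiveResolutions (ModSite.Mod X.sheaf) :=
    (inferInstance : HasInjectiveResolutions X.Modules)
  haveI := CI.additive_Tf_push i (Coh.structureModule Z)
  obtain ⟨e⟩ := CI.nonempty_rightDerived_Tf_iso i (Coh.structureModule Z) G q M hM
  exact ⟨((_root_.RDer.rightDerivedIso (RHomOCoh.TfUnitIso i) q).app G).symm ≪≫ e⟩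

end Flat

section Cartier

variable {X : Scheme.{u}} (I : X.IdealSheafData)
  [HasInjectiveResolutions (ModSite.Mod X.sheaf)]

/-- `ℰxt^0(i_* F, E) = 0` for an effective Cartier divisor and `E` finite locally free. -/
theorem isZero_ext0 (hI : BlowUp.IsEffCartierIdeal I) (F : I.subscheme.Modules) (E : X.Modules)
    (hE : FlatMod.IsFinLocFree E) :
    IsZero ((ModSite.extSh (O := X.sheaf)
      ((Scheme.Modules.pushforward I.subschemeι).obj F) 0).obj E) := by
  refine QC.isZero_of_locally_isZero_restrict (X := X) _ (fun y => ?_)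
  obtain ⟨U, hyU, f, hf, hIU⟩ := hI y
  refine ⟨U.1, hyU, ?_⟩
  haveI : IsAffine (U.1 : Scheme.{u}) := U.2
  haveI : HasInjectiveResolutions (ModSite.Mod (U.1 : Scheme.{u}).sheaf) :=
    QCQS.hasInjRes (U.1 : Scheme.{u})
  obtain ⟨e⟩ := ExtRestr.nonempty_restr_extSh_iso U.1
    ((Scheme.Modules.pushforward I.subschemeι).obj F) E 0
  refine IsZero.of_iso ?_ e
  have hreg : IsWeaklyRegular Γ(X, U.1) [f] :=
    (isWeaklyRegular_singleton_iff _ f).mpr
      (isRegular_iff_mem_nonZeroDivisors.mpr hf).left.isSMulRegular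
  refine RegImmExt.isZero_extSh_of_regular
    ([f].map (U.1.topIso.symm.commRingCatIsoToRingEquiv))
    (RegImmExt.isWeaklyRegular_map_ringEquiv _ [f] hreg) _ _
    (Groth.Agent.H2.RpC.isFinLocFree_restrict E hE U.1) ?_ 0 (by simp)
  intro r' hr'
  obtain ⟨r, hr, rfl⟩ := List.mem_map.mp hr'
  have hrf : r = f := List.mem_singleton.mp hr
  subst hrf
  refine RegImmExt.smulEnd_restrict_push_eq_zero I.subschemeι U.1 F r ?_
  have hmem : r ∈ RingHom.ker (I.subschemeι.app U.1).hom := by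
    rw [I.ker_subschemeι_app U, hIU]
    exact Ideal.mem_span_singleton_self r
  exact hmem

/-- `ℰxt^{k+2}(O/I, G) = 0` when the ideal is invertible. -/
theorem isZero_ext_ge_two (L : X.Modules)
    (e : CohB1.tensorMod L (ClSub.idealMod I) ≅ Coh.structureModule X) (G : X.Modules) (k : ℕ) :
    IsZero ((ModSite.extSh (O := X.sheaf) (ClSub.quotMod I) (k + 2)).obj G) := by
  have hIinv : PicF.IsInvertible (ClSub.idealMod I) :=
    GS.isInvertible_of_tensor_iso (ClSub.idealMod I) L (QC.tensorCommGen _ _ ≪≫ e)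
  have hIf : FlatMod.IsFinLocFree (ClSub.idealMod I) := QC.isFinLocFree_of_isInvertible _ hIinv
  have hS := PD.shortExact_idealMod I
  obtain ⟨a⟩ := XS.nonempty_shift_iso hS
    (QC.isFinLocFree_of_isInvertible _ (QC.isInvertible_unit X)) G k
  exact IsZero.of_iso (EZ.isZero_extSh_of_isFinLocFree (ClSub.idealMod I) hIf k G) a.symm

/-- `ℰxt^1(O/I, O) ≅ i_* (i^*(L ⊗ O) ⊗ O_D)`. -/
theorem nonempty_ext1_push_iso (L : X.Modules)
    (e : CohB1.tensorMod L (ClSub.idealMod I) ≅ Coh.structureModule X) :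
    Nonempty ((Scheme.Modules.pushforward I.subschemeι).obj
        (CohB1.tensorMod ((Scheme.Modules.pullback I.subschemeι).obj
          (CohB1.tensorMod L (Coh.structureModule X))) (Coh.structureModule I.subscheme)) ≅
      (ModSite.extSh (O := X.sheaf) (ClSub.quotMod I) 1).obj (Coh.structureModule X)) := by
  obtain ⟨a⟩ := XS.nonempty_ext1_iso I (ClSub.quotMod I) (Iso.refl _) L e
    (Coh.structureModule X)
  haveI := CI.isIso_projHomL_ci I.subschemeι (Coh.structureModule I.subscheme)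
    (CohB1.tensorMod L (Coh.structureModule X))
  exact ⟨(asIso (QC.projHomL I.subschemeι (Coh.structureModule I.subscheme)
    (CohB1.tensorMod L (Coh.structureModule X)))).symm ≪≫ QC.tensorCommGen _ _ ≪≫ a.symm⟩

end Cartier

/-- **S3639.** -/
theorem main (X : Scheme.{u}) (I : X.IdealSheafData) (hI : BlowUp.IsEffCartierIdeal I)
    [Dual3.HasHomO I.subschemeι] [EnoughInjectives X.Modules] (L : X.Modules)
    (hL : ClSub.IsInverseOf L (ClSub.idealMod I)) (O : DerivedCategory.Plus X.Modules)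
    (hO : Nonempty (O.obj ≅ DCoh.inD X (Coh.structureModule X))) :
    (∀ j : ℤ, j ≠ 1 → IsZero (DCoh.HD ((Dual3.RHomOPlus I.subschemeι).obj O).obj j)) ∧
      Nonempty (DCoh.HD ((Dual3.RHomOPlus I.subschemeι).obj O).obj 1 ≅
        (Scheme.Modules.pullback I.subschemeι).obj L) := by
  obtain ⟨e⟩ := hL
  obtain ⟨hneg, hp⟩ := HD_of_single I.subschemeι O (Coh.structureModule X) hO
  haveI : HasInjectiveResolutions (ModSite.Mod X.sheaf) :=
    (inferInstance : HasInjectiveResolutions X.Modules)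
  have hOf : FlatMod.IsFinLocFree (Coh.structureModule X) :=
    QC.isFinLocFree_of_isInvertible _ (QC.isInvertible_unit X)
  have hz : ∀ p : ℕ, p ≠ 1 →
      IsZero (((Dual3.homO I.subschemeι).rightDerived p).obj (Coh.structureModule X)) := by
    intro p hp1
    have hext : IsZero ((ModSite.extSh (O := X.sheaf) (ClSub.quotMod I) p).obj
        (Coh.structureModule X)) := by
      match p, hp1 with
      | 0, _ => exact isZero_ext0 I hI (Coh.structureModule I.subscheme) _ hOf
      | 1, h => exact absurd rfl h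
      | k + 2, _ => exact isZero_ext_ge_two I L e _ k
    obtain ⟨e1⟩ := nonempty_rightDerived_flat_iso I.subschemeι (Coh.structureModule X) p
      (0 : I.subscheme.Modules)
      ⟨IsZero.iso ((Scheme.Modules.pushforward I.subschemeι).map_isZero (isZero_zero _)) hext⟩
    exact IsZero.of_iso (isZero_zero _) e1
  refine ⟨fun j hj => ?_, ?_⟩
  · by_cases hneg' : j < 0
    · exact hneg j hneg'
    · obtain ⟨p, rfl⟩ := Int.eq_ofNat_of_zero_le (not_lt.1 hneg')
      obtain ⟨e2⟩ := hp p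
      exact IsZero.of_iso (hz p (by omega)) e2
  · obtain ⟨e2⟩ := hp 1
    obtain ⟨e3⟩ := nonempty_ext1_push_iso I L e
    obtain ⟨e4⟩ := nonempty_rightDerived_flat_iso I.subschemeι (Coh.structureModule X) 1 _ ⟨e3⟩
    exact ⟨e2 ≪≫ e4 ≪≫ SecTwist.unitorR _ ≪≫
      (Scheme.Modules.pullback I.subschemeι).mapIso (SecTwist.unitorR L)⟩

end Groth.Agent.LD.RHomOCartier
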