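import Groth.Agent.Lib.Lead.Inj.ExtZeroGen
import Groth.Agent.Lib.Helper5.AG.TildeExact
import Groth.Agent.Lib.Helper6.CanCompl1
import Groth.Agent.Lib.Lead.QC.Affine
import Groth.Agent.Lib.Lead.QC.Stalk
import Groth.Agent.Lib.Lead.QC.StalkNbhd

/-!
# Stalks of injective `O_X`-modules on a locally Noetherian scheme are injective (S11155)

* `injective_restrict`: the restriction of an injective module along an open immersion is
  injective (`j_!` is exact).
* `injective_sections_spec` / `injective_sections_affine`: the sections of an injective module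
  over an affine open form an injective module (`~` is exact).
* `stalk_injective`: Baer's criterion at the stalk, with generators and relations spread out
  over a small basic open.
-/

set_option autoImplicit false
universe u
open CategoryTheory CategoryTheory.Limits AlgebraicGeometry TopologicalSpace Opposite

namespace Groth.Agent.LD.StalkInj

section Algebra

/-- Baer's criterion through generators: a linear form on an ideal which is a multiplication
on generators of the ideal extends. -/
lemma baer_of_gens {A : Type u} [CommRing A] {T : Type u} [AddCommGroup T] [Module A T]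
    (𝔞 : Ideal A) (g : 𝔞 →ₗ[A] T) {n : ℕ} (α : Fin n → A)
    (hα : 𝔞 = Ideal.span (Set.range α))
    (τ : T) (hτ : ∀ (i : Fin n) (hi : α i ∈ 𝔞), α i • τ = g ⟨α i, hi⟩) :
    ∃ g' : A →ₗ[A] T, ∀ (y : A) (hy : y ∈ 𝔞), g' y = g ⟨y, hy⟩ := by
  refine ⟨LinearMap.toSpanSingleton A T τ, ?_⟩
  have hle : ∀ y : A, y ∈ Submodule.span A (Set.range α) → y ∈ 𝔞 := by
    intro y hy
    rw [hα]
    exact hy
  have key : ∀ (y : A) (_ : y ∈ Submodule.span A (Set.range α)) (hy : y ∈ 𝔞),
      y • τ = g ⟨y, hy⟩ := by
    intro y hy'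
    induction hy' using Submodule.span_induction with
    | mem x hx =>
      obtain ⟨i, rfl⟩ := hx
      intro hy
      exact hτ i hy
    | zero =>
      intro hy
      rw [zero_smul]
      exact (map_zero g).symm.trans (congrArg g (Subtype.ext rfl))
    | add x y hx hy ihx ihy =>
      intro hxy
      rw [add_smul, ihx (hle x hx), ihy (hle y hy), ← map_add]
      exact congrArg g (Subtype.ext rfl)
    | smul a x hx ihx =>
      intro hax
      rw [smul_assoc, ihx (hle x hx), ← map_smul]
      exact congrArg g (Subtype.ext rfl)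
  intro y hy
  rw [LinearMap.toSpanSingleton_apply]
  refine key y ?_ hy
  have h := hy
  rw [hα] at h
  exact h

/-- an injective module contains a solution of a system `aᵢ t = sᵢ` as soon as the `sᵢ` satisfy
the relations of the `aᵢ`. -/
lemma exists_of_relations {R : Type u} [CommRing R] {N : Type u} [AddCommGroup N] [Module R N]
    [hN : Module.Injective R N] {n : ℕ} (a : Fin n → R) (s : Fin n → N)
    (h : ∀ c : Fin n → R, ∑ i, c i * a i = 0 → ∑ i, c i • s i = 0) :
    ∃ t : N, ∀ i, a i • t = s i := by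
  classical
  let π : (Fin n → R) →ₗ[R] R := Fintype.linearCombination R a
  let η : (Fin n → R) →ₗ[R] N := Fintype.linearCombination R s
  have hπ : ∀ c, π c = ∑ i, c i * a i := fun c => by
    simp [π, Fintype.linearCombination_apply, smul_eq_mul]
  have hη : ∀ c, η c = ∑ i, c i • s i := fun c => by
    simp [η, Fintype.linearCombination_apply]
  have hker : LinearMap.ker π ≤ LinearMap.ker η := by
    intro c hc
    rw [LinearMap.mem_ker] at hc ⊢
    rw [hη]
    exact h c (by rw [← hπ]; exact hc)
  let f : ((Fin n → R) ⧸ LinearMap.ker π) →ₗ[R] R := (LinearMap.ker π).liftQ π le_rfl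
  have hf : Function.Injective f := by
    rw [← LinearMap.ker_eq_bot]
    exact Submodule.ker_liftQ_eq_bot _ _ _ le_rfl
  let g : ((Fin n → R) ⧸ LinearMap.ker π) →ₗ[R] N := (LinearMap.ker π).liftQ η hker
  obtain ⟨e, he⟩ := hN.out f hf g
  refine ⟨e 1, fun i => ?_⟩
  have h1 : f (Submodule.Quotient.mk (Pi.single i 1)) = a i := by
    show π (Pi.single i 1) = a i
    rw [hπ]
    simp [Pi.single_apply]
  have h2 : g (Submodule.Quotient.mk (Pi.single i 1)) = s i := by
    show η (Pi.single i 1) = s i
    rw [hη]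
    simp [Pi.single_apply]
  calc a i • e 1 = e (a i • (1 : R)) := (map_smul e (a i) 1).symm
    _ = e (a i) := by rw [smul_eq_mul, mul_one]
    _ = e (f (Submodule.Quotient.mk (Pi.single i 1))) := by rw [h1]
    _ = g (Submodule.Quotient.mk (Pi.single i 1)) := he _
    _ = s i := h2

end Algebra

variable {X : Scheme.{u}}

/-- the restriction of an injective module along an open immersion is injective. -/
lemma injective_restrict {U : Scheme.{u}} (j : U ⟶ X) [IsOpenImmersion j] (I : X.Modules)
    [Injective I] : Injective (I.restrict j) := by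
  haveI := ExtZeroGen.preservesFiniteLimits_extZero j
  exact Injective.injective_of_adjoint (CxOX.extZeroAdj j) I

/-- global sections of an injective module on an affine scheme `Spec R` form an injective
`R`-module. -/
lemma injective_sections_spec (R : CommRingCat.{u}) (J : (Spec R).Modules) [Injective J] :
    Module.Injective R Γ(J, ⊤) := by
  haveI := H5.AG.tilde_preservesFiniteLimits (R := R)
  have h1 : Injective (moduleSpecΓFunctor.obj J) :=
    Injective.injective_of_adjoint (tilde.adjunction (R := R)) J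
  exact Module.injective_module_of_injective_object (R := R) (M := Γ(J, ⊤)) (inj := h1)

/-- sections of an injective module over an affine open form an injective module. -/
lemma injective_sections_affine (I : X.Modules) [Injective I] {V : X.Opens}
    (hV : IsAffineOpen V) :
    Module.Injective Γ(X, V) Γ(I.restrict hV.fromSpec, ⊤) := by
  haveI := injective_restrict hV.fromSpec I
  exact injective_sections_spec Γ(X, V) (I.restrict hV.fromSpec)

/-- finitely many germs have representatives over a common neighbourhood. -/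
lemma exists_common_repr (M : X.Modules) (x : X) {n : ℕ} (γ : Fin n → M.presheaf.stalk x)
    (U₀ : X.Opens) (hx₀ : x ∈ U₀) :
    ∃ (V : X.Opens) (_ : V ≤ U₀) (hxV : x ∈ V) (s : Fin n → Γ(M, V)),
      ∀ i, M.presheaf.germ V x hxV (s i) = γ i := by
  have h := fun i => TopCat.Presheaf.exists_germ_eq M.presheaf (γ i)
  choose W hxW t ht using h
  have hxI : x ∈ Finset.univ.inf W :=
    Finset.inf_induction (p := fun V : X.Opens => x ∈ V) trivial (fun a ha b hb => ⟨ha, hb⟩)
      (fun i _ => hxW i)
  refine ⟨U₀ ⊓ Finset.univ.inf W, inf_le_left, ⟨hx₀, hxI⟩, fun i =>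
    M.presheaf.map (homOfLE (inf_le_right.trans (Finset.inf_le (Finset.mem_univ i)))).op (t i),
    fun i => ?_⟩
  rw [QC.germ_res]
  exact ht i

/-- finitely many sections with vanishing germs vanish on a common neighbourhood. -/
lemma exists_common_vanish (M : X.Modules) (x : X) {V : X.Opens} (hxV : x ∈ V) {m : ℕ}
    (z : Fin m → Γ(M, V)) (hz : ∀ k, M.presheaf.germ V x hxV (z k) = 0) :
    ∃ (W : X.Opens) (hW : W ≤ V), x ∈ W ∧ ∀ k, M.presheaf.map (homOfLE hW).op (z k) = 0 := by
  have h := fun k => QC.exists_res_eq_zero_of_germ_eq_zero M x hxV (z k) (hz k)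
  choose W hW hxW hres using h
  have hxI : x ∈ Finset.univ.inf W :=
    Finset.inf_induction (p := fun V : X.Opens => x ∈ V) trivial (fun a ha b hb => ⟨ha, hb⟩)
      (fun i _ => hxW i)
  refine ⟨V ⊓ Finset.univ.inf W, inf_le_left, ⟨hxV, hxI⟩, fun k => ?_⟩
  have hle : V ⊓ Finset.univ.inf W ≤ W k :=
    inf_le_right.trans (Finset.inf_le (Finset.mem_univ k))
  rw [← QC.res_res M (hW k) hle, hres k]
  exact map_zero (M.presheaf.map (homOfLE hle).op).hom

/-- **the injective package over a basic open**: over a basic open `W` of an affine open `U`,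
systems `aᵢ t = sᵢ` (`aᵢ ∈ Γ(X, U)`, `sᵢ ∈ Γ(I, W)`) satisfying the relations of the `aᵢ` over
`Γ(X, U)` have solutions in `Γ(I, W)`. -/
lemma pkg (I : X.Modules) [Injective I] {U : X.Opens} (hU : IsAffineOpen U) (f' : Γ(X, U)) :
    ∃ (W : X.Opens) (hWU : W ≤ U), W = X.basicOpen f' ∧
      ∀ {n : ℕ} (a : Fin n → Γ(X, U)) (s : Fin n → Γ(I, W)),
        (∀ c : Fin n → Γ(X, U), ∑ i, c i * a i = 0 →
          ∑ i, X.presheaf.map (homOfLE hWU).op (c i) • s i = 0) →
        ∃ t : Γ(I, W), ∀ i, X.presheaf.map (homOfLE hWU).op (a i) • t = s i := by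
  have hV : IsAffineOpen (X.basicOpen f') := hU.basicOpen f'
  have hWV : hV.fromSpec ''ᵁ ⊤ = X.basicOpen f' :=
    (Scheme.Hom.image_top_eq_opensRange _).trans hV.opensRange_fromSpec
  have hWU : hV.fromSpec ''ᵁ ⊤ ≤ U := (QC.fromSpec_image_le hV ⊤).trans (X.basicOpen_le f')
  refine ⟨hV.fromSpec ''ᵁ ⊤, hWU, hWV, ?_⟩
  intro n a s hrel
  haveI : IsLocalization.Away f' Γ(X, X.basicOpen f') := hU.isLocalization_basicOpen f'
  haveI : Module.Flat Γ(X, U) Γ(X, X.basicOpen f') :=
    IsLocalization.flat _ (Submonoid.powers f')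
  haveI : Module.Injective Γ(X, X.basicOpen f') Γ(I.restrict hV.fromSpec, ⊤) :=
    injective_sections_affine I hV
  letI : Module Γ(X, U) Γ(I.restrict hV.fromSpec, ⊤) :=
    Module.compHom _ (algebraMap Γ(X, U) Γ(X, X.basicOpen f'))
  haveI : IsScalarTower Γ(X, U) Γ(X, X.basicOpen f') Γ(I.restrict hV.fromSpec, ⊤) :=
    IsScalarTower.of_algebraMap_smul fun _ _ => rfl
  haveI : Module.Injective Γ(X, U) Γ(I.restrict hV.fromSpec, ⊤) :=
    H6.CanCompl.injective_restrict_of_flat Γ(X, U) Γ(X, X.basicOpen f') _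
  have formula : ∀ (ρ : Γ(X, U)) (m : Γ(I.restrict hV.fromSpec, ⊤)),
      ρ • m = (show Γ(I.restrict hV.fromSpec, ⊤) from
        (X.presheaf.map (homOfLE hWU).op ρ) • (show Γ(I, hV.fromSpec ''ᵁ ⊤) from m)) := by
    intro ρ m
    have h1 := QC.fromSpec_smul I hV ⊤ (algebraMap Γ(X, U) Γ(X, X.basicOpen f') ρ) m
    have h2 : X.presheaf.map (homOfLE (QC.fromSpec_image_le hV ⊤)).op
        (algebraMap Γ(X, U) Γ(X, X.basicOpen f') ρ) = X.presheaf.map (homOfLE hWU).op ρ :=
      QC.sres_res (X.basicOpen_le f') (QC.fromSpec_image_le hV ⊤) ρ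
    rw [h2] at h1
    exact h1
  have key := exists_of_relations (R := Γ(X, U)) (N := Γ(I.restrict hV.fromSpec, ⊤)) a
    (fun i => (show Γ(I.restrict hV.fromSpec, ⊤) from s i)) (by
      intro c hc
      have h3 := hrel c hc
      simp only [formula]
      exact h3)
  obtain ⟨t, ht⟩ := key
  refine ⟨(show Γ(I, hV.fromSpec ''ᵁ ⊤) from t), fun i => ?_⟩
  have h4 := ht i
  rw [formula] at h4
  exact h4

/-- **S11155**: the stalks of an injective module on a locally Noetherian scheme are injective
modules over the local rings. -/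
theorem stalk_injective [IsLocallyNoetherian X] (I : X.Modules) [Injective I] (x : X) :
    Module.Injective (X.presheaf.stalk x) (I.presheaf.stalk x) := by
  classical
  apply Module.Baer.injective
  intro 𝔞 g
  obtain ⟨U, hU, hxU, -⟩ := (Opens.isBasis_iff_nbhd.mp X.isBasis_affineOpens) (Opens.mem_top x)
  haveI : IsNoetherianRing Γ(X, U) := IsLocallyNoetherian.component_noetherian ⟨U, hU⟩
  letI : Algebra Γ(X, U) (X.presheaf.stalk x) :=
    TopCat.Presheaf.algebra_section_stalk X.presheaf ⟨x, hxU⟩
  haveI hloc := IsAffineOpen.isLocalization_stalk hU ⟨x, hxU⟩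
  have hφ : ∀ r : Γ(X, U), algebraMap Γ(X, U) (X.presheaf.stalk x) r =
      X.presheaf.germ U x hxU r := fun r => rfl
  -- generators of the ideal
  obtain ⟨n, a, ha⟩ := Submodule.fg_iff_exists_fin_generating_family.mp
    (IsNoetherian.noetherian (𝔞.comap (algebraMap Γ(X, U) (X.presheaf.stalk x))))
  have h𝔞 : 𝔞 = Ideal.span (Set.range fun i => algebraMap Γ(X, U) (X.presheaf.stalk x) (a i)) := by
    have h1 := IsLocalization.map_comap (IsAffineOpen.primeIdealOf hU ⟨x, hxU⟩).asIdeal.primeCompl
      (X.presheaf.stalk x) 𝔞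
    calc 𝔞 = Ideal.map (algebraMap Γ(X, U) (X.presheaf.stalk x))
          (Ideal.comap (algebraMap Γ(X, U) (X.presheaf.stalk x)) 𝔞) := h1.symm
      _ = Ideal.map (algebraMap Γ(X, U) (X.presheaf.stalk x)) (Ideal.span (Set.range a)) := by
          rw [← ha]
      _ = Ideal.span ((algebraMap Γ(X, U) (X.presheaf.stalk x)) '' Set.range a) :=
          Ideal.map_span _ _
      _ = Ideal.span (Set.range fun i => algebraMap Γ(X, U) (X.presheaf.stalk x) (a i)) := by
          rw [← Set.range_comp]; rfl
  -- relations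
  obtain ⟨m, r, hr⟩ := Submodule.fg_iff_exists_fin_generating_family.mp
    (IsNoetherian.noetherian (LinearMap.ker (Fintype.linearCombination Γ(X, U) a)))
  have hrk : ∀ k, ∑ i, r k i * a i = 0 := by
    intro k
    have h1 : r k ∈ LinearMap.ker (Fintype.linearCombination Γ(X, U) a) := by
      rw [← hr]; exact Submodule.subset_span ⟨k, rfl⟩
    rw [LinearMap.mem_ker, Fintype.linearCombination_apply] at h1
    simpa [smul_eq_mul] using h1
  have hmem : ∀ i, algebraMap Γ(X, U) (X.presheaf.stalk x) (a i) ∈ 𝔞 := by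
    intro i
    rw [h𝔞]
    exact Ideal.subset_span ⟨i, rfl⟩
  -- the germs to be hit
  obtain ⟨V₁, hV₁U, hxV₁, s, hs⟩ := exists_common_repr I x
    (fun i => g ⟨algebraMap Γ(X, U) (X.presheaf.stalk x) (a i), hmem i⟩) U hxU
  have hz : ∀ k, I.presheaf.germ V₁ x hxV₁
      (∑ i, X.presheaf.map (homOfLE hV₁U).op (r k i) • s i) = 0 := by
    intro k
    rw [map_sum]
    have h1 : ∀ i, I.presheaf.germ V₁ x hxV₁ (X.presheaf.map (homOfLE hV₁U).op (r k i) • s i) =
        g (algebraMap Γ(X, U) (X.presheaf.stalk x) (r k i) •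
          ⟨algebraMap Γ(X, U) (X.presheaf.stalk x) (a i), hmem i⟩) := by
      intro i
      rw [QC.germ_smul, QC.sgerm_res, hs i, map_smul]
      rfl
    rw [Finset.sum_congr rfl fun i _ => h1 i, ← map_sum]
    have h0 : (∑ i, algebraMap Γ(X, U) (X.presheaf.stalk x) (r k i) •
        (⟨algebraMap Γ(X, U) (X.presheaf.stalk x) (a i), hmem i⟩ : 𝔞)) = 0 := by
      apply Subtype.ext
      rw [Submodule.coe_sum]
      simp only [Submodule.coe_smul, smul_eq_mul, Submodule.coe_zero]
      rw [← map_zero (algebraMap Γ(X, U) (X.presheaf.stalk x)), ← hrk k, map_sum]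
      simp only [map_mul]
    rw [h0, map_zero]
  obtain ⟨V₂, hV₂, hxV₂, hvan⟩ := exists_common_vanish I x hxV₁
    (fun k => ∑ i, X.presheaf.map (homOfLE hV₁U).op (r k i) • s i) hz
  obtain ⟨f', hf'V₂, hxf'⟩ := IsAffineOpen.exists_basicOpen_le hU (V := V₂) ⟨x, hxV₂⟩ hxU
  obtain ⟨W, hWU, hWV, pk⟩ := pkg I hU f'
  have hxW : x ∈ W := by rw [hWV]; exact hxf'
  have hWV₂ : W ≤ V₂ := by rw [hWV]; exact hf'V₂
  have hWV₁ : W ≤ V₁ := hWV₂.trans hV₂
  -- the relations hold over `W`
  have hrel : ∀ c : Fin n → Γ(X, U), ∑ i, c i * a i = 0 →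
      ∑ i, X.presheaf.map (homOfLE hWU).op (c i) •
        I.presheaf.map (homOfLE hWV₁).op (s i) = 0 := by
    intro c hc
    have hc' : c ∈ Submodule.span Γ(X, U) (Set.range r) := by
      rw [hr, LinearMap.mem_ker, Fintype.linearCombination_apply]
      simpa [smul_eq_mul] using hc
    clear hc
    induction hc' using Submodule.span_induction with
    | mem c hc =>
      obtain ⟨k, rfl⟩ := hc
      have h1 : I.presheaf.map (homOfLE hWV₁).op
          (∑ i, X.presheaf.map (homOfLE hV₁U).op (r k i) • s i) = 0 := by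
        rw [← QC.res_res I hV₂ hWV₂]
        have := hvan k
        simp only at this
        rw [this]
        exact map_zero (I.presheaf.map (homOfLE hWV₂).op).hom
      rw [map_sum] at h1
      rw [← h1]
      refine Finset.sum_congr rfl fun i _ => ?_
      rw [Scheme.Modules.map_smul, QC.sres_res]
    | zero =>
      simp only [Pi.zero_apply, map_zero, zero_smul, Finset.sum_const_zero]
    | add c c' _ _ ih ih' =>
      simp only [Pi.add_apply, map_add, add_smul, Finset.sum_add_distrib, ih, ih', add_zero]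
    | smul ρ c _ ih =>
      simp only [Pi.smul_apply, smul_eq_mul, map_mul, mul_smul]
      rw [← Finset.smul_sum, ih, smul_zero]
  obtain ⟨t, ht⟩ := pk a (fun i => I.presheaf.map (homOfLE hWV₁).op (s i)) hrel
  refine baer_of_gens 𝔞 g (fun i => algebraMap Γ(X, U) (X.presheaf.stalk x) (a i)) h𝔞
    (I.presheaf.germ W x hxW t) ?_
  intro i hi
  have e1 : I.presheaf.germ W x hxW (X.presheaf.map (homOfLE hWU).op (a i) • t) =
      X.presheaf.germ U x hxU (a i) • I.presheaf.germ W x hxW t := by
    rw [QC.germ_smul, QC.sgerm_res]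
  show X.presheaf.germ U x hxU (a i) • I.presheaf.germ W x hxW t = _
  rw [← e1, ht i, QC.germ_res, hs i]

end Groth.Agent.LD.StalkInj
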